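import Cfsg.Prelude.Def_Balance
import Mathlib

-- helper31: verbatim copy of `Cfsg.Agent.H29.Transport` under the namespace prefix `Cfsg.Agent.H31.X`
-- (so that it can be loaded together with `Cfsg.Agent.H29.ThompsonInt`, which declares the
-- same name `Cfsg.Agent.H29.map_symm_map` as `Cfsg.Agent.H29.Transport`).

set_option autoImplicit false

namespace Cfsg.Agent.H31.X.H29
open Cfsg

universe u v
variable {X : Type u} {Y : Type v} [Group X] [Group Y]

theorem map_symm_map (e : X ≃* Y) (M : Subgroup Y) :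
    (M.map e.symm.toMonoidHom).map e.toMonoidHom = M := by
  ext y
  simp only [Subgroup.mem_map, MulEquiv.coe_toMonoidHom]
  constructor
  · rintro ⟨x, ⟨y', hy', rfl⟩, rfl⟩
    simpa using hy'
  · intro hy
    exact ⟨e.symm y, ⟨y, hy, rfl⟩, by simp⟩

theorem map_map_symm (e : X ≃* Y) (M : Subgroup X) :
    (M.map e.toMonoidHom).map e.symm.toMonoidHom = M := by
  have := map_symm_map e.symm M
  simpa using this

/-- Transport of a supremum of a definable family of subgroups along an isomorphism. -/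
theorem map_sSup_setOf_equiv (e : X ≃* Y) (P : Subgroup X → Prop) (Q : Subgroup Y → Prop)
    (h1 : ∀ N, P N → Q (N.map e.toMonoidHom)) (h2 : ∀ M, Q M → P (M.map e.symm.toMonoidHom)) :
    (sSup {N | P N}).map e.toMonoidHom = sSup {M | Q M} := by
  apply le_antisymm
  · rw [Subgroup.map_le_iff_le_comap]
    apply sSup_le
    intro N hN
    rw [← Subgroup.map_le_iff_le_comap]
    exact le_sSup (h1 N hN)
  · apply sSup_le
    intro M hM
    rw [← map_symm_map e M]
    exact Subgroup.map_mono (le_sSup (h2 M hM))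

theorem card_map_equiv (e : X ≃* Y) (N : Subgroup X) :
    Nat.card (N.map e.toMonoidHom) = Nat.card N :=
  Nat.card_congr (N.equivMapOfInjective e.toMonoidHom e.injective).symm.toEquiv

theorem pPrimeCore_map_equiv (p : ℕ) (e : X ≃* Y) :
    (pPrimeCore p X).map e.toMonoidHom = pPrimeCore p Y := by
  unfold pPrimeCore
  apply map_sSup_setOf_equiv e (fun N => N.Normal ∧ (Nat.card N).Coprime p)
    (fun M => M.Normal ∧ (Nat.card M).Coprime p)
  · rintro N ⟨hN, hc⟩
    exact ⟨hN.map _ e.surjective, by rw [card_map_equiv]; exact hc⟩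
  · rintro M ⟨hM, hc⟩
    exact ⟨hM.map _ e.symm.surjective, by rw [card_map_equiv]; exact hc⟩

theorem pCore_map_equiv (p : ℕ) (e : X ≃* Y) :
    (pCore p X).map e.toMonoidHom = pCore p Y := by
  unfold pCore
  apply map_sSup_setOf_equiv e (fun N => N.Normal ∧ IsPGroup p N)
    (fun M => M.Normal ∧ IsPGroup p M)
  · rintro N ⟨hN, hc⟩
    exact ⟨hN.map _ e.surjective, hc.map _⟩
  · rintro M ⟨hM, hc⟩
    exact ⟨hM.map _ e.symm.surjective, hc.map _⟩

theorem center_map_equiv (e : X ≃* Y) :
    (Subgroup.center X).map e.toMonoidHom = Subgroup.center Y := by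
  ext y
  simp only [Subgroup.mem_map, MulEquiv.coe_toMonoidHom, Subgroup.mem_center_iff]
  constructor
  · rintro ⟨x, hx, rfl⟩ g
    have := congrArg e (hx (e.symm g))
    simpa using this
  · intro hy
    refine ⟨e.symm y, fun g => ?_, by simp⟩
    have := congrArg e.symm (hy (e g))
    simpa using this

theorem isQuasisimple_of_equiv {H : Type u} {H' : Type v} [Group H] [Group H'] (e : H ≃* H')
    (h : IsQuasisimple H) : IsQuasisimple H' := by
  obtain ⟨hp, hs⟩ := h
  refine ⟨?_, ?_⟩
  · exact Group.IsPerfect.ofSurjective (f := e.toMonoidHom) e.surjective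
  · exact (QuotientGroup.congr _ _ e (center_map_equiv e)).symm.isSimpleGroup

theorem isComponent_map_equiv (e : X ≃* Y) {K : Subgroup X} (h : IsComponent K) :
    IsComponent (K.map e.toMonoidHom) := by
  obtain ⟨hs, hq⟩ := h
  exact ⟨hs.map e.surjective, isQuasisimple_of_equiv (K.equivMapOfInjective e.toMonoidHom e.injective) hq⟩

/-- the isomorphism induced on the quotients by the `p'`-cores -/
noncomputable def quotEquiv (p : ℕ) (e : X ≃* Y) :
    X ⧸ pPrimeCore p X ≃* Y ⧸ pPrimeCore p Y :=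
  QuotientGroup.congr _ _ e (pPrimeCore_map_equiv p e)

theorem quotEquiv_comp_mk (p : ℕ) (e : X ≃* Y) :
    (quotEquiv p e).toMonoidHom.comp (QuotientGroup.mk' (pPrimeCore p X)) =
      (QuotientGroup.mk' (pPrimeCore p Y)).comp e.toMonoidHom := by
  ext x
  exact QuotientGroup.congr_mk _ _ e (pPrimeCore_map_equiv p e) x

theorem map_mk_map_equiv (p : ℕ) (e : X ≃* Y) (K : Subgroup X) :
    (K.map e.toMonoidHom).map (QuotientGroup.mk' (pPrimeCore p Y)) =
      (K.map (QuotientGroup.mk' (pPrimeCore p X))).map (quotEquiv p e).toMonoidHom := by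
  rw [Subgroup.map_map, Subgroup.map_map, quotEquiv_comp_mk]

theorem isPComponent_map_equiv (p : ℕ) (e : X ≃* Y) {K : Subgroup X} (h : IsPComponent p K) :
    IsPComponent p (K.map e.toMonoidHom) := by
  obtain ⟨hs, hc, hmin⟩ := h
  refine ⟨hs.map e.surjective, ?_, ?_⟩
  · rw [map_mk_map_equiv]
    exact isComponent_map_equiv _ hc
  · intro H hH hHK hmap
    have h1 : (H.map e.symm.toMonoidHom).IsSubnormal := hH.map e.symm.surjective
    have h2 : H.map e.symm.toMonoidHom ≤ K := by
      have := Subgroup.map_mono (f := e.symm.toMonoidHom) hHK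
      rwa [map_map_symm] at this
    have h3 : (H.map e.symm.toMonoidHom).map (QuotientGroup.mk' (pPrimeCore p X)) =
        K.map (QuotientGroup.mk' (pPrimeCore p X)) := by
      apply Subgroup.map_injective (quotEquiv p e).injective
      change ((H.map e.symm.toMonoidHom).map (QuotientGroup.mk' (pPrimeCore p X))).map
          (quotEquiv p e).toMonoidHom =
        (K.map (QuotientGroup.mk' (pPrimeCore p X))).map (quotEquiv p e).toMonoidHom
      rw [← map_mk_map_equiv, ← map_mk_map_equiv, map_symm_map, hmap]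
    have h4 := hmin _ h1 h2 h3
    rw [← h4, map_symm_map]

theorem pLayer_map_equiv (p : ℕ) (e : X ≃* Y) :
    (pLayer p X).map e.toMonoidHom = pLayer p Y := by
  unfold pLayer
  exact map_sSup_setOf_equiv e (fun K => IsPComponent p K) (fun K => IsPComponent p K)
    (fun K hK => isPComponent_map_equiv p e hK) (fun K hK => isPComponent_map_equiv p e.symm hK)

theorem pPrimePCore_map_equiv (p : ℕ) (e : X ≃* Y) :
    (pPrimePCore p X).map e.toMonoidHom = pPrimePCore p Y := by
  unfold pPrimePCore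
  ext y
  rw [Subgroup.mem_comap]
  have hq := pCore_map_equiv p (quotEquiv p e)
  rw [← hq]
  simp only [Subgroup.mem_map, MulEquiv.coe_toMonoidHom, Subgroup.mem_comap]
  constructor
  · rintro ⟨x, hx, rfl⟩
    refine ⟨_, hx, ?_⟩
    have := DFunLike.congr_fun (quotEquiv_comp_mk p e) x
    simpa using this
  · rintro ⟨q, hq', hqy⟩
    refine ⟨e.symm y, ?_, by simp⟩
    have h1 := DFunLike.congr_fun (quotEquiv_comp_mk p e) (e.symm y)
    simp only [MonoidHom.coe_comp, MulEquiv.coe_toMonoidHom, Function.comp_apply,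
      MulEquiv.apply_symm_apply] at h1
    have h2 : (QuotientGroup.mk' (pPrimeCore p X)) (e.symm y) = q := by
      apply (quotEquiv p e).injective
      rw [h1, hqy]
    rw [h2]; exact hq'

/-- restriction of an isomorphism to subgroups corresponding under it -/
noncomputable def restrictEquiv (e : X ≃* Y) (A : Subgroup X) (B : Subgroup Y)
    (hAB : A.map e.toMonoidHom = B) : ↥A ≃* ↥B :=
  (A.equivMapOfInjective e.toMonoidHom e.injective).trans (MulEquiv.subgroupCongr hAB)

theorem restrictEquiv_coe (e : X ≃* Y) (A : Subgroup X) (B : Subgroup Y)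
    (hAB : A.map e.toMonoidHom = B) (a : A) : ((restrictEquiv e A B hAB a : B) : Y) = e a := by
  rfl

theorem subtype_comp_restrictEquiv (e : X ≃* Y) (A : Subgroup X) (B : Subgroup Y)
    (hAB : A.map e.toMonoidHom = B) :
    B.subtype.comp (restrictEquiv e A B hAB).toMonoidHom = e.toMonoidHom.comp A.subtype := by
  ext a
  simp [restrictEquiv_coe]

theorem centralizer_map_equiv (e : X ≃* Y) (P : Subgroup X) :
    (Subgroup.centralizer (P : Set X)).map e.toMonoidHom =
      Subgroup.centralizer ((P.map e.toMonoidHom : Subgroup Y) : Set Y) := by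
  ext y
  simp only [Subgroup.mem_map, MulEquiv.coe_toMonoidHom, Subgroup.mem_centralizer_iff,
    SetLike.mem_coe]
  constructor
  · rintro ⟨x, hx, rfl⟩ h ⟨a, ha, rfl⟩
    have := congrArg e (hx a ha)
    simpa using this
  · intro hy
    refine ⟨e.symm y, fun a ha => ?_, by simp⟩
    have := congrArg e.symm (hy (e a) ⟨a, ha, rfl⟩)
    simpa using this

/-- `O(C_X(P))` as a subgroup of `X` -/
noncomputable def coreCent (P : Subgroup X) : Subgroup X :=
  (oddCore ↥(Subgroup.centralizer (P : Set X))).map (Subgroup.centralizer (P : Set X)).subtype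

theorem coreCent_map_equiv (e : X ≃* Y) (P : Subgroup X) :
    (coreCent P).map e.toMonoidHom = coreCent (P.map e.toMonoidHom) := by
  unfold coreCent
  have hc := centralizer_map_equiv e P
  have h1 : (oddCore ↥(Subgroup.centralizer (P : Set X))).map (restrictEquiv e _ _ hc).toMonoidHom =
      oddCore ↥(Subgroup.centralizer ((P.map e.toMonoidHom : Subgroup Y) : Set Y)) :=
    pPrimeCore_map_equiv 2 (restrictEquiv e _ _ hc)
  rw [← h1, Subgroup.map_map, Subgroup.map_map, subtype_comp_restrictEquiv]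

theorem exists_sylow_map_equiv (p : ℕ) [Fact p.Prime] (e : X ≃* Y) (A : Subgroup X) (B : Subgroup Y)
    (hAB : A.map e.toMonoidHom = B) (T : Sylow p ↥A) :
    ∃ T' : Sylow p ↥B, (T' : Subgroup ↥B).map B.subtype =
      ((T : Subgroup ↥A).map A.subtype).map e.toMonoidHom := by
  set r := restrictEquiv e A B hAB with hr
  have hf : Function.Injective r.symm.toMonoidHom := fun a b h => r.symm.injective h
  have hrange : (T : Subgroup ↥A) ≤ r.symm.toMonoidHom.range := fun x _ => ⟨r x, by simp⟩
  refine ⟨T.comapOfInjective r.symm.toMonoidHom hf hrange, ?_⟩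
  have h0 : ((T.comapOfInjective r.symm.toMonoidHom hf hrange : Sylow p ↥B) : Subgroup ↥B) =
      (T : Subgroup ↥A).comap r.symm.toMonoidHom := rfl
  have h1 : (T : Subgroup ↥A).comap r.symm.toMonoidHom = (T : Subgroup ↥A).map r.toMonoidHom :=
    (Subgroup.map_equiv_eq_comap_symm r (T : Subgroup ↥A)).symm
  rw [h0, h1, Subgroup.map_map, Subgroup.map_map, hr, subtype_comp_restrictEquiv]

theorem extendedTwoLayer_map_equiv (e : X ≃* Y) :
    (extendedTwoLayer X).map e.toMonoidHom = extendedTwoLayer Y := by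
  have : Fact (Nat.Prime 2) := ⟨Nat.prime_two⟩
  have hN : (pLayer 2 X ⊔ pPrimePCore 2 X).map e.toMonoidHom = pLayer 2 Y ⊔ pPrimePCore 2 Y := by
    rw [Subgroup.map_sup, pLayer_map_equiv, pPrimePCore_map_equiv]
  have hN' : (pLayer 2 Y ⊔ pPrimePCore 2 Y).map e.symm.toMonoidHom = pLayer 2 X ⊔ pPrimePCore 2 X := by
    rw [Subgroup.map_sup, pLayer_map_equiv, pPrimePCore_map_equiv]
  change (pLayer 2 X ⊔ oddCore X ⊔ ⨆ T : Sylow 2 ↥(pLayer 2 X ⊔ pPrimePCore 2 X),
      coreCent ((T : Subgroup ↥(pLayer 2 X ⊔ pPrimePCore 2 X)).map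
          (pLayer 2 X ⊔ pPrimePCore 2 X).subtype)).map e.toMonoidHom =
    pLayer 2 Y ⊔ oddCore Y ⊔ ⨆ T : Sylow 2 ↥(pLayer 2 Y ⊔ pPrimePCore 2 Y),
      coreCent ((T : Subgroup ↥(pLayer 2 Y ⊔ pPrimePCore 2 Y)).map
          (pLayer 2 Y ⊔ pPrimePCore 2 Y).subtype)
  rw [Subgroup.map_sup, Subgroup.map_sup, pLayer_map_equiv, pPrimeCore_map_equiv, Subgroup.map_iSup]
  congr 1
  apply le_antisymm
  · apply iSup_le
    intro T
    obtain ⟨T', hT'⟩ := exists_sylow_map_equiv 2 e _ _ hN T
    rw [coreCent_map_equiv, ← hT']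
    exact le_iSup (fun T : Sylow 2 ↥(pLayer 2 Y ⊔ pPrimePCore 2 Y) =>
      coreCent ((T : Subgroup ↥(pLayer 2 Y ⊔ pPrimePCore 2 Y)).map
          (pLayer 2 Y ⊔ pPrimePCore 2 Y).subtype)) T'
  · apply iSup_le
    intro T'
    obtain ⟨T, hT⟩ := exists_sylow_map_equiv 2 e.symm _ _ hN' T'
    have h2 : ((T : Subgroup ↥(pLayer 2 X ⊔ pPrimePCore 2 X)).map
          (pLayer 2 X ⊔ pPrimePCore 2 X).subtype).map e.toMonoidHom =
        (T' : Subgroup ↥(pLayer 2 Y ⊔ pPrimePCore 2 Y)).map (pLayer 2 Y ⊔ pPrimePCore 2 Y).subtype := by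
      rw [hT, map_symm_map]
    rw [← h2, ← coreCent_map_equiv]
    exact le_iSup (fun T : Sylow 2 ↥(pLayer 2 X ⊔ pPrimePCore 2 X) =>
      (coreCent ((T : Subgroup ↥(pLayer 2 X ⊔ pPrimePCore 2 X)).map
          (pLayer 2 X ⊔ pPrimePCore 2 X).subtype)).map e.toMonoidHom) T

theorem extendedTwoLayer_characteristic (X : Type u) [Group X] :
    (extendedTwoLayer X).Characteristic := by
  rw [Subgroup.characteristic_iff_map_eq]
  intro ϕ
  exact extendedTwoLayer_map_equiv ϕ

theorem pLayer_characteristic (p : ℕ) (X : Type u) [Group X] :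
    (pLayer p X).Characteristic := by
  rw [Subgroup.characteristic_iff_map_eq]
  intro ϕ
  exact pLayer_map_equiv p ϕ

theorem pPrimePCore_characteristic (p : ℕ) (X : Type u) [Group X] :
    (pPrimePCore p X).Characteristic := by
  rw [Subgroup.characteristic_iff_map_eq]
  intro ϕ
  exact pPrimePCore_map_equiv p ϕ

theorem pPrimeCore_characteristic (p : ℕ) (X : Type u) [Group X] :
    (pPrimeCore p X).Characteristic := by
  rw [Subgroup.characteristic_iff_map_eq]
  intro ϕ
  exact pPrimeCore_map_equiv p ϕ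

theorem pCore_characteristic (p : ℕ) (X : Type u) [Group X] :
    (pCore p X).Characteristic := by
  rw [Subgroup.characteristic_iff_map_eq]
  intro ϕ
  exact pCore_map_equiv p ϕ

end Cfsg.Agent.H31.X.H29
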