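import Mathlib
import Cfsg.Prelude.Def_CaseTheorems
import Cfsg.Agent.H54.PCore
import Cfsg.Agent.H54.Stab
import Cfsg.Agent.H31.X.Transport

-- helper31: verbatim copy of `Cfsg.Agent.H54.CharP` under the namespace prefix `Cfsg.Agent.H31.X`
-- (so that it can be loaded together with `Cfsg.Agent.H29.ThompsonInt`, which declares the
-- same name `Cfsg.Agent.H29.map_symm_map` as `Cfsg.Agent.H29.Transport`).

set_option autoImplicit false

namespace Cfsg.Agent.H31.X.H54

open Cfsg.Agent.H54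

theorem conj_iterate {G : Type*} [Group G] (c : G) (k : ℕ) (x : G) :
    (⇑(MulAut.conj c))^[k] x = c ^ k * x * (c ^ k)⁻¹ := by
  induction k with
  | zero => simp
  | succ k ih =>
    rw [Function.iterate_succ_apply', ih, MulAut.conj_apply, pow_succ']
    group

/-- Chain stabilizer: an element `c` with `c ^ m = 1` that centralizes `R` and satisfies
`[c, Q] ⊆ R ≤ Q`, where `m` is coprime to `|Q|`, centralizes `Q`. -/
theorem centralizes_of_stable_chain {G : Type*} [Group G] (Q R : Subgroup G) [Finite Q] (c : G)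
    (m : ℕ) (hm : c ^ m = 1) (hcop : Nat.Coprime m (Nat.card Q)) (hRQ : R ≤ Q)
    (hR : ∀ r ∈ R, c * r = r * c) (hQ : ∀ x ∈ Q, c * x * c⁻¹ * x⁻¹ ∈ R) :
    ∀ x ∈ Q, c * x = x * c := by
  intro x hx
  have h1 : MulAut.conj c x = x := by
    apply fixed_of_fixed_comm (MulAut.conj c) x m (Nat.card Q) hcop
    · rw [conj_iterate, hm]; simp
    · have hmem : c * x * c⁻¹ * x⁻¹ ∈ Q := hRQ (hQ x hx)
      rw [MulAut.conj_apply]
      have := pow_card_eq_one' (G := Q) (x := ⟨_, hmem⟩)
      exact congrArg Subtype.val this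
    · simp only [MulAut.conj_apply]
      have := hR _ (hQ x hx)
      rw [this]; group
  rw [MulAut.conj_apply] at h1
  calc c * x = c * x * c⁻¹ * c := by group
    _ = x * c := by rw [h1]

/-- `O_p` of a normal subgroup is contained in `O_p` of the group. -/
theorem pCore_normal_map_le {X : Type*} [Group X] {p : ℕ} (N : Subgroup X) [N.Normal] :
    (Cfsg.pCore p ↥N).map N.subtype ≤ Cfsg.pCore p X := by
  apply le_pCore
  · constructor
    rintro _ ⟨r, hr, rfl⟩ g
    have h := Cfsg.Agent.H31.X.H29.pCore_map_equiv p (MulAut.conjNormal g : N ≃* N)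
    have h2 : (MulAut.conjNormal g : N ≃* N) r ∈ Cfsg.pCore p ↥N := by
      rw [← h]; exact Subgroup.mem_map_of_mem _ hr
    exact ⟨_, h2, by simp [MulAut.conjNormal_apply]⟩
  · exact (pCore_isPGroup p ↥N).map _

/-- A normal subgroup of a group of characteristic `p` has characteristic `p`. -/
theorem charP_normal {X : Type*} [Group X] [Finite X] {p : ℕ} [Fact p.Prime]
    (hX : Subgroup.centralizer (Cfsg.pCore p X : Set X) ≤ Cfsg.pCore p X) (N : Subgroup X)
    [hN : N.Normal] :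
    Subgroup.centralizer (Cfsg.pCore p ↥N : Set ↥N) ≤ Cfsg.pCore p ↥N := by
  have hp : p.Prime := Fact.out
  have hQN : ∀ x : X, x ∈ Cfsg.pCore p X → ∀ hx : x ∈ N, (⟨x, hx⟩ : N) ∈ Cfsg.pCore p ↥N := by
    intro x hxQ hxN
    have h1 : ((Cfsg.pCore p X).subgroupOf N) ≤ Cfsg.pCore p ↥N :=
      le_pCore inferInstance ((pCore_isPGroup p X).comap_subtype)
    exact h1 (Subgroup.mem_subgroupOf.mpr hxQ)
  have hCp : IsPGroup p (Subgroup.centralizer (Cfsg.pCore p ↥N : Set ↥N)) := by
    rintro ⟨g, hg⟩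
    obtain ⟨k, m, hmp, hkm⟩ := Nat.exists_eq_pow_mul_and_not_dvd (orderOf_pos g).ne' p hp.ne_one
    refine ⟨k, ?_⟩
    apply Subtype.ext
    change g ^ p ^ k = 1
    have hcC : g ^ p ^ k ∈ Subgroup.centralizer (Cfsg.pCore p ↥N : Set ↥N) := Subgroup.pow_mem _ hg _
    have hcm : (g ^ p ^ k) ^ m = 1 := by rw [← pow_mul, ← hkm]; exact pow_orderOf_eq_one g
    have hcent : ∀ x ∈ Cfsg.pCore p X, ((g ^ p ^ k : N) : X) * x = x * ((g ^ p ^ k : N) : X) := by
      apply centralizes_of_stable_chain (Cfsg.pCore p X) ((Cfsg.pCore p ↥N).map N.subtype)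
        ((g ^ p ^ k : N) : X) m
      · rw [← Subgroup.coe_pow, hcm]; rfl
      · obtain ⟨j, hj⟩ := IsPGroup.iff_card.mp (pCore_isPGroup p X)
        rw [hj]
        exact Nat.Coprime.pow_right j ((Nat.Prime.coprime_iff_not_dvd hp).mpr hmp).symm
      · exact pCore_normal_map_le N
      · rintro _ ⟨r, hr, rfl⟩
        have := Subgroup.mem_centralizer_iff.mp hcC r hr
        exact congrArg Subtype.val this.symm
      · intro x hx
        have hmem : ((g ^ p ^ k : N) : X) * x * ((g ^ p ^ k : N) : X)⁻¹ * x⁻¹ ∈ N := by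
          have h1 : x * ((g ^ p ^ k : N) : X)⁻¹ * x⁻¹ ∈ N :=
            hN.conj_mem _ (N.inv_mem (g ^ p ^ k : N).2) x
          have := N.mul_mem (g ^ p ^ k : N).2 h1
          convert this using 1; group
        have hmemQ : ((g ^ p ^ k : N) : X) * x * ((g ^ p ^ k : N) : X)⁻¹ * x⁻¹ ∈ Cfsg.pCore p X := by
          have h1 : ((g ^ p ^ k : N) : X) * x * ((g ^ p ^ k : N) : X)⁻¹ ∈ Cfsg.pCore p X :=
            (inferInstance : (Cfsg.pCore p X).Normal).conj_mem _ hx _
          exact (Cfsg.pCore p X).mul_mem h1 ((Cfsg.pCore p X).inv_mem hx)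
        exact ⟨⟨_, hmem⟩, hQN _ hmemQ hmem, rfl⟩
    have hcQ : ((g ^ p ^ k : N) : X) ∈ Cfsg.pCore p X := by
      apply hX
      rw [Subgroup.mem_centralizer_iff]
      intro x hx
      exact (hcent x hx).symm
    obtain ⟨j, hj⟩ := (pCore_isPGroup p X) ⟨((g ^ p ^ k : N) : X), hcQ⟩
    have hj' : (g ^ p ^ k) ^ p ^ j = 1 := by
      apply Subtype.ext
      have := congrArg Subtype.val hj
      simpa using this
    have h1 : orderOf (g ^ p ^ k) ∣ p ^ j := orderOf_dvd_of_pow_eq_one hj'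
    have h2 : orderOf (g ^ p ^ k) ∣ m := orderOf_dvd_of_pow_eq_one hcm
    have h3 : Nat.Coprime (p ^ j) m :=
      Nat.Coprime.pow_left j ((Nat.Prime.coprime_iff_not_dvd hp).mpr hmp)
    have h4 : orderOf (g ^ p ^ k) = 1 := Nat.eq_one_of_dvd_coprimes h3 h1 h2
    exact orderOf_eq_one_iff.mp h4
  exact le_pCore inferInstance hCp

/-- Characteristic `p` is invariant under isomorphism. -/
theorem charP_of_equiv {X Y : Type*} [Group X] [Group Y] {p : ℕ} (e : X ≃* Y)
    (hX : Subgroup.centralizer (Cfsg.pCore p X : Set X) ≤ Cfsg.pCore p X) :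
    Subgroup.centralizer (Cfsg.pCore p Y : Set Y) ≤ Cfsg.pCore p Y := by
  rw [← Cfsg.Agent.H31.X.H29.pCore_map_equiv p e, ← Cfsg.Agent.H31.X.H29.centralizer_map_equiv]
  exact Subgroup.map_mono hX

/-- A subnormal subgroup of a group of characteristic `p` has characteristic `p`. -/
theorem charP_subnormal {X : Type*} [Group X] [Finite X] {p : ℕ} [Fact p.Prime]
    (hX : Subgroup.centralizer (Cfsg.pCore p X : Set X) ≤ Cfsg.pCore p X) (Y : Subgroup X)
    (hY : Y.IsSubnormal) :
    Subgroup.centralizer (Cfsg.pCore p ↥Y : Set ↥Y) ≤ Cfsg.pCore p ↥Y := by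
  induction hY with
  | top => exact charP_of_equiv Subgroup.topEquiv.symm hX
  | step H K hle hK hN ih =>
    have h1 := charP_normal (X := ↥K) ih (H.subgroupOf K)
    exact charP_of_equiv (Subgroup.subgroupOfEquivOfLe hle) h1

end Cfsg.Agent.H31.X.H54
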