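import Mathlib
import Cfsg.Prelude.Def_Amalgam
import Cfsg.Agent.H31.X.CharP
import Cfsg.Agent.H27.Comp

-- helper31: verbatim copy of `Cfsg.Agent.H54.CharP2` under the namespace prefix `Cfsg.Agent.H31.X`
-- (so that it can be loaded together with `Cfsg.Agent.H29.ThompsonInt`, which declares the
-- same name `Cfsg.Agent.H29.map_symm_map` as `Cfsg.Agent.H29.Transport`).

set_option autoImplicit false

namespace Cfsg.Agent.H31.X.H54

open Cfsg.Agent.H54

open Subgroup

section internal

variable {G : Type*} [Group G] {p : ℕ}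

/-- A subgroup `K` all of whose elements conjugate `L` into itself normalizes `L`. -/
theorem le_normalizer_of_conj_mem {K L : Subgroup G}
    (h : ∀ g ∈ K, ∀ x ∈ L, g * x * g⁻¹ ∈ L) : K ≤ Subgroup.normalizer (L : Set G) := by
  intro g hg
  rw [Subgroup.mem_normalizer_iff]
  intro x
  constructor
  · exact h g hg x
  · intro hx
    have := h g⁻¹ (K.inv_mem hg) _ hx
    have h2 : g⁻¹ * (g * x * g⁻¹) * g⁻¹⁻¹ = x := by group
    rwa [h2] at this

theorem conj_mem_of_le_normalizer {K L : Subgroup G} (h : K ≤ Subgroup.normalizer (L : Set G))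
    {g x : G} (hg : g ∈ K) (hx : x ∈ L) : g * x * g⁻¹ ∈ L :=
  (Subgroup.mem_normalizer_iff.mp (h hg) x).mp hx

theorem normalizer_le_normalizer_centralizer (H : Subgroup G) :
    Subgroup.normalizer (H : Set G) ≤ Subgroup.normalizer ((Subgroup.centralizer (H : Set G) : Subgroup G) : Set G) := by
  apply le_normalizer_of_conj_mem
  intro g hg x hx
  rw [Subgroup.mem_centralizer_iff] at hx ⊢
  intro h hh
  have h1 : g⁻¹ * h * g⁻¹⁻¹ ∈ H :=
    (Subgroup.mem_normalizer_iff.mp ((Subgroup.normalizer (H : Set G)).inv_mem hg) h).mp hh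
  have h2 := hx _ h1
  calc h * (g * x * g⁻¹) = g * ((g⁻¹ * h * g⁻¹⁻¹) * x) * g⁻¹ := by group
    _ = g * (x * (g⁻¹ * h * g⁻¹⁻¹)) * g⁻¹ := by rw [h2]
    _ = g * x * g⁻¹ * h := by group

theorem le_normalizer_inf' {A X Y : Subgroup G} (hX : A ≤ Subgroup.normalizer (X : Set G))
    (hY : A ≤ Subgroup.normalizer (Y : Set G)) :
    A ≤ Subgroup.normalizer ((X ⊓ Y : Subgroup G) : Set G) := by
  apply le_normalizer_of_conj_mem
  intro g hg x hx
  exact ⟨conj_mem_of_le_normalizer hX hg hx.1, conj_mem_of_le_normalizer hY hg hx.2⟩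

theorem pCoreOf_le (H : Subgroup G) : Cfsg.pCoreOf p H ≤ H := by
  rintro _ ⟨x, -, rfl⟩
  exact x.2

theorem isPGroup_pCoreOf (H : Subgroup G) : IsPGroup p (Cfsg.pCoreOf p H) :=
  (pCore_isPGroup p ↥H).map _

theorem mem_pCoreOf_iff {H : Subgroup G} {x : G} :
    x ∈ Cfsg.pCoreOf p H ↔ ∃ hx : x ∈ H, (⟨x, hx⟩ : H) ∈ Cfsg.pCore p ↥H := by
  constructor
  · rintro ⟨y, hy, rfl⟩
    exact ⟨y.2, hy⟩
  · rintro ⟨hx, h⟩
    exact ⟨⟨x, hx⟩, h, rfl⟩

theorem normalizer_le_normalizer_pCoreOf (H : Subgroup G) :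
    Subgroup.normalizer (H : Set G) ≤ Subgroup.normalizer ((Cfsg.pCoreOf p H : Subgroup G) : Set G) :=
  Cfsg.Agent.H27.normalizer_le_normalizer_radIn (Cfsg.Agent.H27.isoInv_pGroup p) H

theorem le_normalizer_pCoreOf (H : Subgroup G) :
    H ≤ Subgroup.normalizer ((Cfsg.pCoreOf p H : Subgroup G) : Set G) :=
  Subgroup.le_normalizer.trans (normalizer_le_normalizer_pCoreOf H)

theorem le_pCoreOf {K H : Subgroup G} (hKH : K ≤ H) (hN : H ≤ Subgroup.normalizer (K : Set G))
    (hK : IsPGroup p K) : K ≤ Cfsg.pCoreOf p H := by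
  have hn : (K.subgroupOf H).Normal := (Subgroup.normal_subgroupOf_iff_le_normalizer hKH).mpr hN
  have h1 : K.subgroupOf H ≤ Cfsg.pCore p ↥H := le_pCore hn hK.comap_subtype
  intro x hx
  exact ⟨⟨x, hKH hx⟩, h1 (Subgroup.mem_subgroupOf.mpr hx), rfl⟩

/-- `O_p` of a subgroup `D` normalized by `N ≥ D` lies in `O_p(N)`. -/
theorem pCoreOf_le_pCoreOf {D N : Subgroup G} (hDN : D ≤ N)
    (hn : N ≤ Subgroup.normalizer (D : Set G)) : Cfsg.pCoreOf p D ≤ Cfsg.pCoreOf p N :=
  le_pCoreOf ((pCoreOf_le D).trans hDN) (hn.trans (normalizer_le_normalizer_pCoreOf D))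
    (isPGroup_pCoreOf D)

/-- Characteristic `p` (centralizer form), abbreviation. -/
abbrev CharP (p : ℕ) (X : Type*) [Group X] : Prop :=
  Subgroup.centralizer (Cfsg.pCore p X : Set X) ≤ Cfsg.pCore p X

theorem charP_iff_internal (H : Subgroup G) :
    CharP p ↥H ↔ ∀ c ∈ H, (∀ q ∈ Cfsg.pCoreOf p H, c * q = q * c) → c ∈ Cfsg.pCoreOf p H := by
  constructor
  · intro h c hc hcent
    have : (⟨c, hc⟩ : H) ∈ Subgroup.centralizer (Cfsg.pCore p ↥H : Set ↥H) := by
      rw [Subgroup.mem_centralizer_iff]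
      intro q hq
      apply Subtype.ext
      exact (hcent q ⟨q, hq, rfl⟩).symm
    exact ⟨_, h this, rfl⟩
  · intro h c hc
    have h1 := h c c.2 (by
      rintro _ ⟨q, hq, rfl⟩
      exact (congrArg Subtype.val (Subgroup.mem_centralizer_iff.mp hc q hq)).symm)
    obtain ⟨hx, h2⟩ := mem_pCoreOf_iff.mp h1
    exact h2

end internal

section finite

variable {G : Type*} [Group G] [Finite G] {p : ℕ} [Fact p.Prime]

/-- an element of order prime to `p` in a `p`-group is trivial -/
theorem eq_one_of_mem_pgroup_of_coprime {P : Subgroup G} (hP : IsPGroup p P) {c : G} (hc : c ∈ P)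
    (hcop : (orderOf c).Coprime p) : c = 1 := by
  obtain ⟨j, hj⟩ := hP ⟨c, hc⟩
  have hj' : c ^ p ^ j = 1 := by
    have := congrArg Subtype.val hj
    simpa using this
  have h1 : orderOf c ∣ p ^ j := orderOf_dvd_of_pow_eq_one hj'
  have h3 : Nat.Coprime (orderOf c) (p ^ j) := Nat.Coprime.pow_right j hcop
  have h4 : orderOf c = 1 := Nat.Coprime.eq_one_of_dvd h3 h1
  exact orderOf_eq_one_iff.mp h4

/-- `p'`-criterion for characteristic `p`: it suffices that `p'`-elements centralizing `O_p(H)`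
are trivial. -/
theorem charP_of_p'_trivial (H : Subgroup G)
    (h : ∀ c ∈ H, (orderOf c).Coprime p → (∀ q ∈ Cfsg.pCoreOf p H, c * q = q * c) → c = 1) :
    CharP p ↥H := by
  have hp : p.Prime := Fact.out
  rw [charP_iff_internal]
  have hD : IsPGroup p (H ⊓ Subgroup.centralizer ((Cfsg.pCoreOf p H : Subgroup G) : Set G) : Subgroup G) := by
    rintro ⟨g, hg⟩
    obtain ⟨k, m, hmp, hkm⟩ := Nat.exists_eq_pow_mul_and_not_dvd (orderOf_pos g).ne' p hp.ne_one
    refine ⟨k, ?_⟩
    apply Subtype.ext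
    change g ^ p ^ k = 1
    have hcD : g ^ p ^ k ∈ (H ⊓ Subgroup.centralizer ((Cfsg.pCoreOf p H : Subgroup G) : Set G) : Subgroup G) :=
      Subgroup.pow_mem _ hg _
    have hcm : (g ^ p ^ k) ^ m = 1 := by rw [← pow_mul, ← hkm]; exact pow_orderOf_eq_one g
    apply h _ hcD.1
    · have h1 : orderOf (g ^ p ^ k) ∣ m := orderOf_dvd_of_pow_eq_one hcm
      exact Nat.Coprime.coprime_dvd_left h1 ((Nat.Prime.coprime_iff_not_dvd hp).mpr hmp).symm
    · intro q hq
      exact (Subgroup.mem_centralizer_iff.mp hcD.2 q hq).symm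
  have hDle : (H ⊓ Subgroup.centralizer ((Cfsg.pCoreOf p H : Subgroup G) : Set G) : Subgroup G) ≤
      Cfsg.pCoreOf p H := by
    apply le_pCoreOf inf_le_left _ hD
    apply le_normalizer_inf' Subgroup.le_normalizer
    exact (le_normalizer_pCoreOf H).trans (normalizer_le_normalizer_centralizer _)
  intro c hc hcent
  apply hDle
  refine ⟨hc, Subgroup.mem_centralizer_iff.mpr ?_⟩
  intro q hq
  exact (hcent q hq).symm

theorem p'_trivial_of_charP (H : Subgroup G) (hH : CharP p ↥H) (c : G) (hc : c ∈ H)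
    (hcop : (orderOf c).Coprime p) (hcent : ∀ q ∈ Cfsg.pCoreOf p H, c * q = q * c) : c = 1 :=
  eq_one_of_mem_pgroup_of_coprime (isPGroup_pCoreOf H) ((charP_iff_internal H).mp hH c hc hcent) hcop

/-- For `p`-subgroups `P`, `B` with `B` normalizing `P ≠ 1`, `[P, B] < P`. -/
theorem commutator_lt_of_isPGroup (P B : Subgroup G) (hP : IsPGroup p P) (hB : IsPGroup p B)
    (hBP : B ≤ Subgroup.normalizer (P : Set G)) (hne : P ≠ ⊥) : ⁅P, B⁆ < P := by
  have hle : ⁅P, B⁆ ≤ P := Cfsg.Agent.H27.commutator_le_of_le_normalizer' hBP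
  refine lt_of_le_of_ne hle ?_
  intro heq
  have hN : IsPGroup p (B ⊔ P : Subgroup G) := hB.to_sup_of_normal_right' hP hBP
  have hnil : Group.IsNilpotent ↥(B ⊔ P) := hN.isNilpotent
  obtain ⟨n, hn⟩ := (Subgroup.isNilpotent_iff_lowerCentralSeries (B ⊔ P)).mp hnil
  have key : ∀ i, P ≤ (B ⊔ P).lowerCentralSeries i := by
    intro i
    induction i with
    | zero => exact le_sup_right
    | succ i ih =>
      rw [Subgroup.lowerCentralSeries_succ]
      calc P = ⁅P, B⁆ := heq.symm
        _ ≤ ⁅(B ⊔ P).lowerCentralSeries i, B ⊔ P⁆ := Subgroup.commutator_mono ih le_sup_left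
  apply hne
  exact le_bot_iff.mp (hn ▸ key n)

end finite

section thompson

variable {G : Type*} [Group G] [Finite G] {p : ℕ} [Fact p.Prime]

open scoped commutatorElement in
/-- **Thompson's `A × B` lemma**, induction form. -/
theorem thompson_AxB_aux (A B : Subgroup G) (hB : IsPGroup p B) (hA : (Nat.card A).Coprime p)
    (hAB : ∀ a ∈ A, ∀ b ∈ B, a * b = b * a) :
    ∀ (n : ℕ) (P : Subgroup G), Nat.card P ≤ n → IsPGroup p P →
      A ≤ Subgroup.normalizer (P : Set G) → B ≤ Subgroup.normalizer (P : Set G) →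
      (∀ a ∈ A, ∀ x ∈ P, (∀ b ∈ B, b * x = x * b) → a * x = x * a) →
      ∀ a ∈ A, ∀ x ∈ P, a * x = x * a := by
  intro n
  induction n with
  | zero =>
    intro P hcard
    exact absurd hcard (by have := Nat.card_pos (α := P); omega)
  | succ n ih =>
    intro P hcard hP hAP hBP hC
    by_cases hne : P = ⊥
    · subst hne
      intro a ha x hx
      rw [Subgroup.mem_bot] at hx; subst hx; simp
    have hlt := commutator_lt_of_isPGroup P B hP hB hBP hne
    have hQP : ⁅P, B⁆ ≤ P := hlt.le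
    have hcardQ : Nat.card ↥⁅P, B⁆ ≤ n := by
      by_contra hcon
      have h1 : Nat.card P ≤ Nat.card ↥⁅P, B⁆ := by omega
      exact hlt.ne (Subgroup.eq_of_le_of_card_ge hQP h1)
    have hAB' : A ≤ Subgroup.normalizer (B : Set G) := by
      intro a ha
      apply Subgroup.centralizer_le_normalizer
      rw [Subgroup.mem_centralizer_iff]
      intro b hb
      exact (hAB a ha b hb).symm
    have hAQ : A ≤ Subgroup.normalizer ((⁅P, B⁆ : Subgroup G) : Set G) :=
      (le_inf hAP hAB').trans (Cfsg.Agent.H27.normalizer_inf_le_normalizer_commutator P B)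
    have hBQ : B ≤ Subgroup.normalizer ((⁅P, B⁆ : Subgroup G) : Set G) :=
      (le_inf hBP Subgroup.le_normalizer).trans
        (Cfsg.Agent.H27.normalizer_inf_le_normalizer_commutator P B)
    have hQ := ih ⁅P, B⁆ hcardQ (hP.to_le hQP) hAQ hBQ
      (fun a ha x hx hxB => hC a ha x (hQP hx) hxB)
    have h1 : ⁅⁅P, B⁆, A⁆ = ⊥ :=
      Cfsg.Agent.H27.comm_eq_bot_of_forall (fun x hx a ha => (hQ a ha x hx).symm)
    have h2 : ⁅⁅B, A⁆, P⁆ = ⊥ := by
      have : ⁅B, A⁆ = ⊥ :=
        Cfsg.Agent.H27.comm_eq_bot_of_forall (fun b hb a ha => (hAB a ha b hb).symm)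
      rw [this, Subgroup.commutator_bot_left]
    have h3 : ⁅⁅A, P⁆, B⁆ = ⊥ := Subgroup.commutator_commutator_eq_bot_of_rotate h1 h2
    intro a ha
    have hm : a ^ orderOf a = 1 := pow_orderOf_eq_one a
    have hcop : Nat.Coprime (orderOf a) (Nat.card P) := by
      obtain ⟨k, hk⟩ := IsPGroup.iff_card.mp hP
      rw [hk]
      apply Nat.Coprime.pow_right
      have h4 : orderOf a ∣ Nat.card A := by
        have := orderOf_dvd_natCard (⟨a, ha⟩ : A)
        rwa [← Subgroup.orderOf_coe] at this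
      exact Nat.Coprime.coprime_dvd_left h4 hA
    apply centralizes_of_stable_chain P (P ⊓ Subgroup.centralizer (B : Set G)) a (orderOf a) hm hcop
      inf_le_left
    · intro r hr
      apply hC a ha r hr.1
      intro b hb
      exact Subgroup.mem_centralizer_iff.mp hr.2 b hb
    · intro x hx
      refine ⟨P.mul_mem (conj_mem_of_le_normalizer hAP ha hx) (P.inv_mem hx),
        Subgroup.mem_centralizer_iff.mpr ?_⟩
      intro b hb
      have hmem : ⁅a, x⁆ ∈ ⁅A, P⁆ := Subgroup.commutator_mem_commutator ha hx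
      rw [commutatorElement_def] at hmem
      exact (Cfsg.Agent.H27.comm_of_comm_eq_bot h3 hmem hb).symm

/-- **Thompson's `A × B` lemma**: if the `p'`-group `A` and the `p`-group `B` commute, both
normalize the `p`-group `P`, and `A` centralizes `C_P(B)`, then `A` centralizes `P`. -/
theorem thompson_AxB (A B P : Subgroup G) (hB : IsPGroup p B) (hA : (Nat.card A).Coprime p)
    (hAB : ∀ a ∈ A, ∀ b ∈ B, a * b = b * a) (hP : IsPGroup p P)
    (hAP : A ≤ Subgroup.normalizer (P : Set G)) (hBP : B ≤ Subgroup.normalizer (P : Set G))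
    (hC : ∀ a ∈ A, ∀ x ∈ P, (∀ b ∈ B, b * x = x * b) → a * x = x * a) :
    ∀ a ∈ A, ∀ x ∈ P, a * x = x * a :=
  thompson_AxB_aux A B hB hA hAB (Nat.card P) P le_rfl hP hAP hBP hC

/-- Element form of the `A × B` lemma. -/
theorem thompson_AxB_elt (a : G) (B P : Subgroup G) (hB : IsPGroup p B)
    (ha : (orderOf a).Coprime p) (haB : ∀ b ∈ B, a * b = b * a) (hP : IsPGroup p P)
    (haP : a ∈ Subgroup.normalizer (P : Set G)) (hBP : B ≤ Subgroup.normalizer (P : Set G))
    (hC : ∀ x ∈ P, (∀ b ∈ B, b * x = x * b) → a * x = x * a) :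
    ∀ x ∈ P, a * x = x * a := by
  have hz : ∀ (y : G), a * y = y * a → ∀ a' ∈ Subgroup.zpowers a, a' * y = y * a' := by
    intro y hy a' ha'
    have h1 : Subgroup.zpowers a ≤ Subgroup.centralizer ({y} : Set G) := by
      rw [Subgroup.zpowers_le, Subgroup.mem_centralizer_iff]
      intro z hz
      rw [Set.mem_singleton_iff] at hz; subst hz
      exact hy.symm
    exact (Subgroup.mem_centralizer_iff.mp (h1 ha') y rfl).symm
  have key := thompson_AxB (Subgroup.zpowers a) B P hB (by rw [Nat.card_zpowers]; exact ha)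
    (fun a' ha' b hb => hz b (haB b hb) a' ha') hP (by rw [Subgroup.zpowers_le]; exact haP) hBP
    (fun a' ha' x hx hxB => hz x (hC x hx hxB) a' ha')
  exact key a (Subgroup.mem_zpowers a)

end thompson

section lemmaL

variable {G : Type*} [Group G] [Finite G] {p : ℕ} [Fact p.Prime]

/-- If `M` has characteristic `p`, `B ≤ M` is a `p`-subgroup and `C_G(B) ≤ M`, then `N_G(B)` has
characteristic `p`. -/
theorem charP_normalizer_of_centralizer_le (M B : Subgroup G) (hM : CharP p ↥M)
    (hB : IsPGroup p B) (hBM : B ≤ M) (hCM : Subgroup.centralizer (B : Set G) ≤ M) :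
    CharP p ↥(Subgroup.normalizer (B : Set G)) := by
  apply charP_of_p'_trivial
  intro a haN hacop hacent
  have hBQ : B ≤ Cfsg.pCoreOf p (Subgroup.normalizer (B : Set G)) :=
    le_pCoreOf Subgroup.le_normalizer le_rfl hB
  have haB : ∀ b ∈ B, a * b = b * a := fun b hb => hacent b (hBQ hb)
  have haCB : a ∈ Subgroup.centralizer (B : Set G) :=
    Subgroup.mem_centralizer_iff.mpr (fun b hb => (haB b hb).symm)
  have haM : a ∈ M := hCM haCB
  apply p'_trivial_of_charP M hM a haM hacop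
  have hMP : M ≤ Subgroup.normalizer ((Cfsg.pCoreOf p M : Subgroup G) : Set G) :=
    le_normalizer_pCoreOf M
  apply thompson_AxB_elt a B (Cfsg.pCoreOf p M) hB hacop haB (isPGroup_pCoreOf M) (hMP haM)
    (hBM.trans hMP)
  intro x hxP hxB
  have hNM_Q₂ : Subgroup.normalizer (B : Set G) ⊓ M ≤
      Subgroup.normalizer ((Cfsg.pCoreOf p (Subgroup.normalizer (B : Set G) ⊓ M) : Subgroup G) : Set G) :=
    le_normalizer_pCoreOf _
  have hNQ : Subgroup.normalizer (B : Set G) ≤
      Subgroup.normalizer ((Cfsg.pCoreOf p (Subgroup.normalizer (B : Set G)) : Subgroup G) : Set G) :=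
    le_normalizer_pCoreOf _
  have hCBN : Subgroup.centralizer (B : Set G) ≤ Subgroup.normalizer (B : Set G) :=
    Subgroup.centralizer_le_normalizer _
  have hRQ₂ : Cfsg.pCoreOf p M ⊓ Subgroup.centralizer (B : Set G) ≤
      Cfsg.pCoreOf p (Subgroup.normalizer (B : Set G) ⊓ M) := by
    apply le_pCoreOf
    · exact le_inf (inf_le_right.trans hCBN) (inf_le_left.trans (pCoreOf_le M))
    · apply le_normalizer_inf'
      · exact inf_le_right.trans hMP
      · exact inf_le_left.trans (normalizer_le_normalizer_centralizer B)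
    · exact (isPGroup_pCoreOf M).to_le inf_le_left
  have hxQ₂ : x ∈ Cfsg.pCoreOf p (Subgroup.normalizer (B : Set G) ⊓ M) :=
    hRQ₂ ⟨hxP, Subgroup.mem_centralizer_iff.mpr (fun b hb => hxB b hb)⟩
  have haNM : a ∈ Subgroup.normalizer (B : Set G) ⊓ M := ⟨haN, haM⟩
  have hDN : Subgroup.normalizer (B : Set G) ≤ Subgroup.normalizer
      ((Subgroup.normalizer (B : Set G) ⊓ Subgroup.centralizer
        ((Cfsg.pCoreOf p (Subgroup.normalizer (B : Set G)) : Subgroup G) : Set G) : Subgroup G) : Set G) :=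
    le_normalizer_inf' Subgroup.le_normalizer
      (hNQ.trans (normalizer_le_normalizer_centralizer _))
  have haD : a ∈ Subgroup.normalizer (B : Set G) ⊓ Subgroup.centralizer
      ((Cfsg.pCoreOf p (Subgroup.normalizer (B : Set G)) : Subgroup G) : Set G) :=
    ⟨haN, Subgroup.mem_centralizer_iff.mpr (fun q hq => (hacent q hq).symm)⟩
  have hDM : Subgroup.normalizer (B : Set G) ⊓ Subgroup.centralizer
      ((Cfsg.pCoreOf p (Subgroup.normalizer (B : Set G)) : Subgroup G) : Set G) ≤ M :=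
    inf_le_right.trans ((Subgroup.centralizer_le hBQ).trans hCM)
  have hR₂Q : (Subgroup.normalizer (B : Set G) ⊓ Subgroup.centralizer
      ((Cfsg.pCoreOf p (Subgroup.normalizer (B : Set G)) : Subgroup G) : Set G)) ⊓
      Cfsg.pCoreOf p (Subgroup.normalizer (B : Set G) ⊓ M) ≤
      Cfsg.pCoreOf p (Subgroup.normalizer (B : Set G)) := by
    refine le_trans ?_ (pCoreOf_le_pCoreOf (p := p) inf_le_left hDN)
    apply le_pCoreOf inf_le_left
    · apply le_normalizer_inf' Subgroup.le_normalizer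
      exact (le_inf inf_le_left hDM).trans hNM_Q₂
    · exact (isPGroup_pCoreOf _).to_le inf_le_right
  have hcop : Nat.Coprime (orderOf a)
      (Nat.card (Cfsg.pCoreOf p (Subgroup.normalizer (B : Set G) ⊓ M))) := by
    obtain ⟨k, hk⟩ := IsPGroup.iff_card.mp
      (isPGroup_pCoreOf (p := p) (Subgroup.normalizer (B : Set G) ⊓ M))
    rw [hk]
    exact Nat.Coprime.pow_right k hacop
  exact centralizes_of_stable_chain (Cfsg.pCoreOf p (Subgroup.normalizer (B : Set G) ⊓ M))
    (Cfsg.pCoreOf p (Subgroup.normalizer (B : Set G) ⊓ M) ⊓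
      Cfsg.pCoreOf p (Subgroup.normalizer (B : Set G))) a (orderOf a) (pow_orderOf_eq_one a) hcop
    inf_le_left (fun r hr => hacent r hr.2)
    (fun y hy => by
      have hyN : y ∈ Subgroup.normalizer (B : Set G) := (pCoreOf_le _ hy).1
      have h1 : a * y * a⁻¹ * y⁻¹ ∈ Cfsg.pCoreOf p (Subgroup.normalizer (B : Set G) ⊓ M) :=
        Subgroup.mul_mem _ (conj_mem_of_le_normalizer hNM_Q₂ haNM hy) (Subgroup.inv_mem _ hy)
      have h2 : a * y * a⁻¹ * y⁻¹ ∈ Subgroup.normalizer (B : Set G) ⊓ Subgroup.centralizer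
          ((Cfsg.pCoreOf p (Subgroup.normalizer (B : Set G)) : Subgroup G) : Set G) := by
        have h3 := conj_mem_of_le_normalizer hDN hyN (Subgroup.inv_mem _ haD)
        have := Subgroup.mul_mem _ haD h3
        convert this using 1; group
      exact ⟨h1, hR₂Q ⟨h2, h1⟩⟩) x hxQ₂

/-- Characteristic `p` passes to a subgroup `H ≤ K` normalized by `K`. -/
theorem charP_of_normal_le {H K : Subgroup G} (hHK : H ≤ K)
    (hn : K ≤ Subgroup.normalizer (H : Set G)) (hK : CharP p ↥K) : CharP p ↥H := by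
  have : (H.subgroupOf K).Normal := (Subgroup.normal_subgroupOf_iff_le_normalizer hHK).mpr hn
  have h1 := charP_normal (X := ↥K) hK (H.subgroupOf K)
  exact charP_of_equiv (Subgroup.subgroupOfEquivOfLe hHK) h1

theorem charP_centralizer_of_centralizer_le (M B : Subgroup G) (hM : CharP p ↥M)
    (hB : IsPGroup p B) (hBM : B ≤ M) (hCM : Subgroup.centralizer (B : Set G) ≤ M) :
    CharP p ↥(Subgroup.centralizer (B : Set G)) :=
  charP_of_normal_le (Subgroup.centralizer_le_normalizer _) (normalizer_le_normalizer_centralizer B)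
    (charP_normalizer_of_centralizer_le M B hM hB hBM hCM)

/-- If `C_G(z)` has characteristic `p` for some `z ∈ Z(X)`, `X` a `p`-subgroup, then `N_G(X)` has
characteristic `p`. -/
theorem charP_normalizer_of_centralizer_elt (X : Subgroup G) (hX : IsPGroup p X) (z : G)
    (hzX : z ∈ X) (hzc : ∀ x ∈ X, x * z = z * x)
    (hC : CharP p ↥(Subgroup.centralizer ({z} : Set G))) :
    CharP p ↥(Subgroup.normalizer (X : Set G)) := by
  apply charP_normalizer_of_centralizer_le (Subgroup.centralizer ({z} : Set G)) X hC hX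
  · intro x hx
    rw [Subgroup.mem_centralizer_iff]
    intro y hy
    rw [Set.mem_singleton_iff] at hy; subst hy
    exact (hzc x hx).symm
  · apply Subgroup.centralizer_le
    rw [Set.singleton_subset_iff]
    exact hzX

/-- In a group of characteristic `p`, the normalizer of every `p`-subgroup has characteristic
`p`. -/
theorem charP_normalizer_of_charP (hG : CharP p G) (U : Subgroup G) (hU : IsPGroup p U) :
    CharP p ↥(Subgroup.normalizer (U : Set G)) :=
  charP_normalizer_of_centralizer_le ⊤ U (charP_of_equiv Subgroup.topEquiv.symm hG) hU le_top le_top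

end lemmaL

end Cfsg.Agent.H31.X.H54
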