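import Mathlib
import Cfsg.Prelude.Def_EvenTechniques
import Cfsg.Agent.H31.X.CharP2
import Cfsg.Agent.H27.Layer
import Cfsg.Agent.H27.Rad
import Cfsg.Agent.H37.Core

-- helper31: verbatim copy of `Cfsg.Agent.H37.Bender` under the namespace prefix `Cfsg.Agent.H31.X`
-- (so that it can be loaded together with `Cfsg.Agent.H29.ThompsonInt`, which declares the
-- same name `Cfsg.Agent.H29.map_symm_map` as `Cfsg.Agent.H29.Transport`).

set_option autoImplicit false
set_option linter.unusedSectionVars false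

/-!
# Bender's theorem on pairs of maximal subgroups (helper37, for S1856 and S1857)

For subgroups `M`, `N` of a finite group `G` with `M ⇝ N` (`Cfsg.leadsTo M N`):

* `inf_eq_bot_of_not_dvd` : a `q`-subgroup normalized by `N`, `q ∤ |F(M)|`, meets `M` trivially.
* `le_of_dvd` : (`G` simple, `M` maximal) a `q`-subgroup normalized by `N` lies in `M` when
  `q` and another prime divide `|F(M)|`.
* `bender_symm` : if also `N ⇝ M` then `M = N` or `F*(M)`, `F*(N)` are `p`-groups.
-/

namespace Cfsg.Agent.H31.X.H37.Bender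

open Cfsg.Agent.H37

open Cfsg Subgroup Cfsg.Agent.H54 Cfsg.Agent.H31.X.H54

universe u

variable {G : Type u} [Group G]

/-- `E(M)` as a subgroup of `G`. -/
def EOf (M : Subgroup G) : Subgroup G := (layer ↥M).map M.subtype

/-- `F(M)` as a subgroup of `G`. -/
def FOf (M : Subgroup G) : Subgroup G := (fittingSubgroup ↥M).map M.subtype

/-- `F*(M)` as a subgroup of `G`. -/
def FsOf (M : Subgroup G) : Subgroup G := (generalizedFittingSubgroup ↥M).map M.subtype

/-- The join of the `O_s(M)` over the primes `s ≠ r`. -/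
def compOf (r : ℕ) (M : Subgroup G) : Subgroup G :=
  ⨆ (s : ℕ) (_ : s.Prime ∧ s ≠ r), Cfsg.pCoreOf s M

/-- `Z(O_r(M))` as a subgroup of `G`. -/
def ZOf (r : ℕ) (M : Subgroup G) : Subgroup G :=
  Cfsg.pCoreOf r M ⊓ centralizer ((Cfsg.pCoreOf r M : Subgroup G) : Set G)

section basic

theorem EOf_le (M : Subgroup G) : EOf M ≤ M := by
  rintro _ ⟨x, -, rfl⟩; exact x.2

theorem FOf_le (M : Subgroup G) : FOf M ≤ M := by
  rintro _ ⟨x, -, rfl⟩; exact x.2

theorem EOf_le_FsOf (M : Subgroup G) : EOf M ≤ FsOf M :=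
  Subgroup.map_mono Cfsg.Agent.H27.layer_le_genFitting

theorem FOf_le_FsOf (M : Subgroup G) : FOf M ≤ FsOf M :=
  Subgroup.map_mono Cfsg.Agent.H27.fitting_le_genFitting

/-- The image in `G` of a normal subgroup of `M` is normalized by `M`. -/
theorem le_normalizer_map_subtype (M : Subgroup G) (K : Subgroup M) [hK : K.Normal] :
    M ≤ normalizer ((K.map M.subtype : Subgroup G) : Set G) := by
  apply le_normalizer_of_conj_mem
  rintro m hm _ ⟨k, hk, rfl⟩
  exact ⟨⟨m, hm⟩ * k * ⟨m, hm⟩⁻¹, hK.conj_mem k hk ⟨m, hm⟩, by simp⟩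

theorem le_normalizer_EOf (M : Subgroup G) : M ≤ normalizer ((EOf M : Subgroup G) : Set G) :=
  le_normalizer_map_subtype M (layer ↥M)

theorem le_normalizer_FOf (M : Subgroup G) : M ≤ normalizer ((FOf M : Subgroup G) : Set G) :=
  le_normalizer_map_subtype M (fittingSubgroup ↥M)

theorem ZOf_le_pCoreOf (r : ℕ) (M : Subgroup G) : ZOf r M ≤ Cfsg.pCoreOf r M := inf_le_left

theorem ZOf_le (r : ℕ) (M : Subgroup G) : ZOf r M ≤ M :=
  (ZOf_le_pCoreOf r M).trans (pCoreOf_le M)

theorem le_normalizer_ZOf (r : ℕ) (M : Subgroup G) :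
    M ≤ normalizer ((ZOf r M : Subgroup G) : Set G) :=
  le_normalizer_inf' (le_normalizer_pCoreOf M)
    ((le_normalizer_pCoreOf M).trans (normalizer_le_normalizer_centralizer _))

theorem isPGroup_ZOf (r : ℕ) (M : Subgroup G) : IsPGroup r (ZOf r M) :=
  (isPGroup_pCoreOf M).to_le inf_le_left

/-- Distinct primes: `O_r(M)` and `O_s(M)` commute. -/
theorem pCoreOf_comm {r s : ℕ} (hrs : r ≠ s) [Fact r.Prime] [Fact s.Prime] (M : Subgroup G) :
    ∀ x ∈ Cfsg.pCoreOf r M, ∀ y ∈ Cfsg.pCoreOf s M, x * y = y * x := by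
  rintro _ ⟨x, hx, rfl⟩ _ ⟨y, hy, rfl⟩
  have hd : Disjoint (pCore r ↥M) (pCore s ↥M) :=
    IsPGroup.disjoint_of_ne r s hrs _ _ (pCore_isPGroup r ↥M) (pCore_isPGroup s ↥M)
  have := (Subgroup.commute_of_normal_of_disjoint _ _ inferInstance inferInstance hd x y hx hy).eq
  exact congrArg Subtype.val this

theorem compOf_le_centralizer (r : ℕ) [Fact r.Prime] (M : Subgroup G) :
    compOf r M ≤ centralizer ((Cfsg.pCoreOf r M : Subgroup G) : Set G) := by
  apply iSup₂_le
  rintro s ⟨hs, hsr⟩ y hy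
  have : Fact s.Prime := ⟨hs⟩
  rw [Subgroup.mem_centralizer_iff]
  intro x hx
  exact pCoreOf_comm (Ne.symm hsr) M x hx y hy

/-- An element commuting with every `O_s(M)`, `s ≠ r`, commutes with `compOf r M`. -/
theorem comm_compOf {r : ℕ} {M : Subgroup G} {y : G}
    (h : ∀ s : ℕ, s.Prime → s ≠ r → ∀ b ∈ Cfsg.pCoreOf s M, y * b = b * y) :
    ∀ c ∈ compOf r M, y * c = c * y := by
  have hle : compOf r M ≤ centralizer ({y} : Set G) := by
    apply iSup₂_le
    rintro s ⟨hs, hsr⟩ b hb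
    rw [Subgroup.mem_centralizer_iff]
    intro z hz
    rw [Set.mem_singleton_iff] at hz; subst hz
    exact h s hs hsr b hb
  intro c hc
  exact Subgroup.mem_centralizer_iff.mp (hle hc) y rfl

end basic

section finite

variable [Finite G]

theorem EOf_comm_FOf (M : Subgroup G) : ∀ e ∈ EOf M, ∀ f ∈ FOf M, e * f = f * e := by
  rintro _ ⟨e, he, rfl⟩ _ ⟨f, hf, rfl⟩
  have := Cfsg.Agent.H27.comm_of_comm_eq_bot (Cfsg.Agent.H27.layer_comm_fitting (G := ↥M)) he hf
  exact congrArg Subtype.val this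

theorem pCoreOf_le_FOf (r : ℕ) [Fact r.Prime] (M : Subgroup G) : Cfsg.pCoreOf r M ≤ FOf M :=
  Subgroup.map_mono (Cfsg.Agent.H27.pCore_le_fitting r)

theorem card_compOf_coprime (r : ℕ) [hr : Fact r.Prime] (M : Subgroup G) :
    (Nat.card (compOf r M)).Coprime r := by
  have hle : compOf r M ≤ H37.pPrimeCoreOf r M := by
    apply iSup₂_le
    rintro s ⟨hs, hsr⟩
    have : Fact s.Prime := ⟨hs⟩
    apply Subgroup.map_mono
    apply H37.le_pPrimeCore inferInstance
    obtain ⟨k, hk⟩ := IsPGroup.iff_card.mp (pCore_isPGroup s ↥M)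
    rw [hk]
    exact Nat.Coprime.pow_left k ((Nat.coprime_primes hs hr.out).mpr hsr)
  exact Nat.Coprime.coprime_dvd_left (Subgroup.card_dvd_of_le hle)
    (H37.card_pPrimeCoreOf_coprime r M)

theorem FOf_le_sup (r : ℕ) [Fact r.Prime] (M : Subgroup G) :
    FOf M ≤ Cfsg.pCoreOf r M ⊔ compOf r M := by
  unfold FOf
  rw [Cfsg.Agent.H27.fitting_eq_pCoreJoin]
  unfold Cfsg.Agent.H27.pCoreJoin
  rw [Subgroup.map_iSup]
  apply iSup_le
  rintro ⟨q, hq⟩
  by_cases hqr : q = r
  · subst hqr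
    exact le_sup_left
  · refine le_trans ?_ le_sup_right
    exact le_iSup₂ (f := fun (s : ℕ) (_ : s.Prime ∧ s ≠ r) => Cfsg.pCoreOf s M) q
      ⟨Nat.prime_of_mem_primeFactors hq, hqr⟩

/-- Every element of `F(M)` is a product of an element of `O_r(M)` and one of the complement. -/
theorem exists_decomp (r : ℕ) [Fact r.Prime] (M : Subgroup G) {g : G} (hg : g ∈ FOf M) :
    ∃ u ∈ Cfsg.pCoreOf r M, ∃ c ∈ compOf r M, u * c = g := by
  apply Cfsg.Agent.H27.exists_mul_of_mem_sup_of_comm _ (FOf_le_sup r M hg)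
  intro a ha b hb
  exact (Subgroup.mem_centralizer_iff.mp (compOf_le_centralizer r M hb) a ha)

theorem card_FOf (M : Subgroup G) : Nat.card (FOf M) = Nat.card (fittingSubgroup ↥M) :=
  Subgroup.card_subtype M _

theorem pCoreOf_ne_bot_of_dvd {r : ℕ} [hr : Fact r.Prime] {M : Subgroup G}
    (h : r ∣ Nat.card (fittingSubgroup ↥M)) : Cfsg.pCoreOf r M ≠ ⊥ := by
  intro hbot
  have h1 : FOf M ≤ compOf r M := by
    have := FOf_le_sup r M
    rwa [hbot, bot_sup_eq] at this
  have h2 : (Nat.card (FOf M)).Coprime r :=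
    Nat.Coprime.coprime_dvd_left (Subgroup.card_dvd_of_le h1) (card_compOf_coprime r M)
  rw [card_FOf] at h2
  have h3 : r ∣ 1 := by
    have := Nat.dvd_gcd h (dvd_refl r)
    rwa [h2] at this
  exact hr.out.one_lt.ne' (Nat.dvd_one.mp h3)

theorem pCoreOf_eq_bot_of_not_dvd {q : ℕ} [hq : Fact q.Prime] {M : Subgroup G}
    (h : ¬ q ∣ Nat.card (fittingSubgroup ↥M)) : Cfsg.pCoreOf q M = ⊥ := by
  apply Subgroup.eq_bot_of_card_eq
  obtain ⟨k, hk⟩ := IsPGroup.iff_card.mp (isPGroup_pCoreOf (p := q) M)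
  have hdvd : Nat.card (Cfsg.pCoreOf q M) ∣ Nat.card (fittingSubgroup ↥M) := by
    rw [← card_FOf]; exact Subgroup.card_dvd_of_le (pCoreOf_le_FOf q M)
  rcases Nat.eq_zero_or_pos k with h0 | h0
  · rw [hk, h0, pow_zero]
  · exact absurd ((dvd_pow_self q h0.ne').trans (hk ▸ hdvd)) h

theorem ZOf_ne_bot {r : ℕ} [Fact r.Prime] {M : Subgroup G} (h : Cfsg.pCoreOf r M ≠ ⊥) :
    ZOf r M ≠ ⊥ := by
  have hnt : Nontrivial ↥(Cfsg.pCoreOf r M) := (Subgroup.nontrivial_iff_ne_bot _).mpr h
  have hc : Nontrivial (Subgroup.center ↥(Cfsg.pCoreOf r M)) :=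
    (isPGroup_pCoreOf (p := r) M).center_nontrivial
  have hne : Subgroup.center ↥(Cfsg.pCoreOf r M) ≠ ⊥ := (Subgroup.nontrivial_iff_ne_bot _).mp hc
  unfold ZOf
  rw [← Cfsg.Agent.H27.center_map_subtype_eq]
  intro hbot
  exact hne ((Subgroup.map_eq_bot_iff_of_injective _ (Subgroup.subtype_injective _)).mp hbot)

/-- `Z(O_r(M))` centralizes `F(M)`. -/
theorem ZOf_comm_FOf (r : ℕ) [Fact r.Prime] (M : Subgroup G) :
    ∀ z ∈ ZOf r M, ∀ f ∈ FOf M, z * f = f * z := by
  intro z hz f hf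
  obtain ⟨u, hu, c, hc, rfl⟩ := exists_decomp r M hf
  have h1 : u * z = z * u := Subgroup.mem_centralizer_iff.mp hz.2 u hu
  have h2 : z * c = c * z := Subgroup.mem_centralizer_iff.mp (compOf_le_centralizer r M hc) z hz.1
  rw [← mul_assoc, ← h1, mul_assoc, h2, mul_assoc]

/-- An element of `M` centralizing `E(M)` and `F(M)` lies in `F(M)`. -/
theorem mem_FOf_of_centralizes {M : Subgroup G} {y : G} (hy : y ∈ M)
    (hE : ∀ e ∈ EOf M, e * y = y * e) (hF : ∀ f ∈ FOf M, f * y = y * f) : y ∈ FOf M := by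
  have hcen : (⟨y, hy⟩ : M) ∈ centralizer ((generalizedFittingSubgroup ↥M : Subgroup M) : Set M) := by
    have hle : generalizedFittingSubgroup ↥M ≤ centralizer ({(⟨y, hy⟩ : M)} : Set M) := by
      unfold generalizedFittingSubgroup
      apply sup_le
      · intro e he
        rw [Subgroup.mem_centralizer_iff]
        intro z hz
        rw [Set.mem_singleton_iff] at hz; subst hz
        apply Subtype.ext
        exact (hE _ ⟨e, he, rfl⟩).symm
      · intro f hf
        rw [Subgroup.mem_centralizer_iff]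
        intro z hz
        rw [Set.mem_singleton_iff] at hz; subst hz
        apply Subtype.ext
        exact (hF _ ⟨f, hf, rfl⟩).symm
    rw [Subgroup.mem_centralizer_iff]
    intro g hg
    exact (Subgroup.mem_centralizer_iff.mp (hle hg) _ rfl).symm
  have hFs : (⟨y, hy⟩ : M) ∈ generalizedFittingSubgroup ↥M :=
    Cfsg.Agent.H27.centralizer_genFitting_le hcen
  -- the centre of `F*(M)` is a normal nilpotent subgroup
  have hnorm : (generalizedFittingSubgroup ↥M ⊓
      centralizer ((generalizedFittingSubgroup ↥M : Subgroup M) : Set M)).Normal :=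
    Subgroup.normal_inf_normal _ _
  have hnil : Group.IsNilpotent ↥(generalizedFittingSubgroup ↥M ⊓
      centralizer ((generalizedFittingSubgroup ↥M : Subgroup M) : Set M)) := by
    apply Cfsg.Agent.H27.nilpotent_of_commutator_central
    intro x hx a ha
    have hx' := Cfsg.Agent.H27.commutator_self_le _ hx
    exact (Subgroup.mem_centralizer_iff.mp ha.2 x hx'.1).symm
  have hle : generalizedFittingSubgroup ↥M ⊓
      centralizer ((generalizedFittingSubgroup ↥M : Subgroup M) : Set M) ≤ fittingSubgroup ↥M :=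
    le_sSup ⟨hnorm, hnil⟩
  exact ⟨⟨y, hy⟩, hle ⟨hFs, hcen⟩, rfl⟩

/-- A solvable subgroup of `M` normalized by `E(M)` is centralized by `E(M)`. -/
theorem centralizes_EOf {M W : Subgroup G} (hWM : W ≤ M) (hsolv : Group.IsSolvable W)
    (hWn : EOf M ≤ normalizer (W : Set G)) : ∀ e ∈ EOf M, ∀ w ∈ W, e * w = w * e := by
  have hsolv' : Group.IsSolvable ↥(W.subgroupOf M) :=
    Group.isSolvable_of_isSolvable_injective
      (f := (Subgroup.subgroupOfEquivOfLe hWM).toMonoidHom)
      (Subgroup.subgroupOfEquivOfLe hWM).injective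
  have hle : layer ↥M ≤ centralizer ((W.subgroupOf M : Subgroup M) : Set M) := by
    apply sSup_le
    intro K hK
    have hinv : K ≤ normalizer ((W.subgroupOf M : Subgroup M) : Set M) := by
      apply le_normalizer_of_conj_mem
      intro k hk w hw
      rw [Subgroup.mem_subgroupOf] at hw ⊢
      have hkE : (k : G) ∈ EOf M := ⟨k, Cfsg.Agent.H27.isComponent_le_layer hK hk, rfl⟩
      have := conj_mem_of_le_normalizer hWn hkE hw
      simpa using this
    have h1 := Cfsg.Agent.H27.component_comm_solvable K _ hK hsolv' hinv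
    rw [Subgroup.commutator_eq_bot_iff_le_centralizer] at h1
    exact h1
  rintro _ ⟨e, he, rfl⟩ w hw
  have h2 := Subgroup.mem_centralizer_iff.mp (hle he) ⟨w, hWM hw⟩ (Subgroup.mem_subgroupOf.mpr hw)
  exact (congrArg Subtype.val h2).symm

/-- In a simple group, a maximal subgroup is the normalizer of each of its nontrivial normal
subgroups. -/
theorem normalizer_eq_of_coatom [IsSimpleGroup G] {M : Subgroup G} (hM : IsCoatom M)
    {Z : Subgroup G} (hZ : Z ≠ ⊥) (hZM : Z ≤ M) (hn : M ≤ normalizer (Z : Set G)) :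
    normalizer (Z : Set G) = M := by
  by_contra hne
  have hlt : M < normalizer (Z : Set G) := lt_of_le_of_ne hn (Ne.symm hne)
  have htop : normalizer (Z : Set G) = ⊤ := hM.2 _ hlt
  have hnorm : Z.Normal := Subgroup.normalizer_eq_top_iff.mp htop
  rcases hnorm.eq_bot_or_eq_top with h | h
  · exact hZ h
  · exact hM.1 (top_le_iff.mp (h ▸ hZM))

theorem centralizer_le_of_coatom [IsSimpleGroup G] {M : Subgroup G} (hM : IsCoatom M)
    {Z : Subgroup G} (hZ : Z ≠ ⊥) (hZM : Z ≤ M) (hn : M ≤ normalizer (Z : Set G)) :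
    centralizer (Z : Set G) ≤ M :=
  (Subgroup.centralizer_le_normalizer _).trans (normalizer_eq_of_coatom hM hZ hZM hn).le

/-! ### Consequences of `M ⇝ N` -/

section leads

variable {M N Q : Subgroup G} (hQ : Q ≤ FOf M)
  (hN : FsOf M ⊓ normalizer (Q : Set G) ≤ N)

include hQ hN

theorem mem_of_centralizes_Q {g : G} (hg : g ∈ FsOf M) (hc : ∀ y ∈ Q, g * y = y * g) : g ∈ N := by
  apply hN
  refine ⟨hg, Subgroup.centralizer_le_normalizer _ ?_⟩
  rw [Subgroup.mem_centralizer_iff]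
  intro y hy
  exact (hc y hy).symm

theorem Q_le : Q ≤ N := fun _ hy => hN ⟨FOf_le_FsOf M (hQ hy), le_normalizer hy⟩

theorem EOf_le_of_leads : EOf M ≤ N := by
  intro e he
  exact mem_of_centralizes_Q hQ hN (EOf_le_FsOf M he) (fun y hy => EOf_comm_FOf M e he y (hQ hy))

theorem ZOf_le_of_leads (r : ℕ) [Fact r.Prime] : ZOf r M ≤ N := by
  intro z hz
  exact mem_of_centralizes_Q hQ hN (FOf_le_FsOf M (pCoreOf_le_FOf r M hz.1))
    (fun y hy => ZOf_comm_FOf r M z hz y (hQ hy))

/-- A `q`-subgroup `W` of `M` normalized by `N ∩ M` centralizes `O_r(M)` for every prime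
`r ≠ q`. -/
theorem centralizes_pCoreOf {q r : ℕ} [Fact q.Prime] [hr : Fact r.Prime] (hqr : q ≠ r)
    {W : Subgroup G} (hWM : W ≤ M) (hW : IsPGroup q W)
    (hWn : N ⊓ M ≤ normalizer (W : Set G)) :
    ∀ w ∈ W, ∀ y ∈ Cfsg.pCoreOf r M, w * y = y * w := by
  have hPp : IsPGroup r (Cfsg.pCoreOf r M) := isPGroup_pCoreOf M
  have hMP : M ≤ normalizer ((Cfsg.pCoreOf r M : Subgroup G) : Set G) := le_normalizer_pCoreOf M
  have hcopW : (Nat.card W).Coprime r := by
    obtain ⟨k, hk⟩ := IsPGroup.iff_card.mp hW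
    rw [hk]
    exact Nat.Coprime.pow_left k ((Nat.coprime_primes Fact.out hr.out).mpr hqr)
  have hdisj : W ⊓ Cfsg.pCoreOf r M = ⊥ := by
    have hd : Disjoint W (Cfsg.pCoreOf r M) := by
      apply Subgroup.disjoint_of_coprime_natCard
      obtain ⟨k, hk⟩ := IsPGroup.iff_card.mp hPp
      rw [hk]
      exact Nat.Coprime.pow_right k hcopW
    exact hd.eq_bot
  -- `W` commutes with `O_r(M) ∩ N`
  have hAB : ∀ a ∈ W, ∀ b ∈ Cfsg.pCoreOf r M ⊓ N, a * b = b * a := by
    intro a ha b hb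
    have hbn : b ∈ normalizer (W : Set G) := hWn ⟨hb.2, pCoreOf_le M hb.1⟩
    have h1 : a * b * a⁻¹ * b⁻¹ ∈ W := by
      have e : a * b * a⁻¹ * b⁻¹ = a * (b * a⁻¹ * b⁻¹) := by group
      rw [e]
      exact mul_mem ha ((Subgroup.mem_normalizer_iff.mp hbn a⁻¹).mp (inv_mem ha))
    have h2 : a * b * a⁻¹ * b⁻¹ ∈ Cfsg.pCoreOf r M :=
      mul_mem (conj_mem_of_le_normalizer hMP (hWM ha) hb.1) (inv_mem hb.1)
    have h3 : a * b * a⁻¹ * b⁻¹ ∈ W ⊓ Cfsg.pCoreOf r M := ⟨h1, h2⟩
    rw [hdisj, Subgroup.mem_bot] at h3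
    calc a * b = (a * b * a⁻¹ * b⁻¹) * b * a := by group
      _ = b * a := by rw [h3, one_mul]
  apply thompson_AxB W (Cfsg.pCoreOf r M ⊓ N) (Cfsg.pCoreOf r M) (hPp.to_le inf_le_left) hcopW hAB
    hPp (hWM.trans hMP) (inf_le_left.trans le_normalizer)
  intro a ha x hx hxB
  -- `x ∈ O_r(M)` centralizing `O_r(M) ∩ N` centralizes `Q`, hence lies in `N`
  have hxQ : ∀ g ∈ Q, x * g = g * x := by
    intro g hg
    obtain ⟨u, hu, c, hc, rfl⟩ := exists_decomp r M (hQ hg)
    have huc : u * c = c * u :=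
      (Subgroup.mem_centralizer_iff.mp (compOf_le_centralizer r M hc) u hu)
    have hxc : x * c = c * x :=
      (Subgroup.mem_centralizer_iff.mp (compOf_le_centralizer r M hc) x hx)
    -- `u ^ n ∈ Q` for `n = |compOf r M|`
    have hcn : c ^ Nat.card (compOf r M) = 1 := by
      have h := pow_card_eq_one' (G := compOf r M) (x := ⟨c, hc⟩)
      have h' := congrArg Subtype.val h
      rw [Subgroup.coe_pow] at h'
      exact h'
    have hun : u ^ Nat.card (compOf r M) ∈ Q := by
      have e : (u * c) ^ Nat.card (compOf r M) = u ^ Nat.card (compOf r M) := by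
        rw [(show Commute u c from huc).mul_pow, hcn, mul_one]
      rw [← e]; exact pow_mem hg _
    have hunB : u ^ Nat.card (compOf r M) ∈ Cfsg.pCoreOf r M ⊓ N :=
      ⟨pow_mem hu _, Q_le hQ hN hun⟩
    have hxun : x * u ^ Nat.card (compOf r M) = u ^ Nat.card (compOf r M) * x :=
      (hxB _ hunB).symm
    have hcop : (Nat.card (compOf r M)).Coprime (orderOf u) := by
      obtain ⟨k, hk⟩ := hPp ⟨u, hu⟩
      have hk' : u ^ r ^ k = 1 := by simpa using congrArg Subtype.val hk
      have hd : orderOf u ∣ r ^ k := orderOf_dvd_of_pow_eq_one hk'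
      exact Nat.Coprime.coprime_dvd_right hd (Nat.Coprime.pow_right k (card_compOf_coprime r M))
    obtain ⟨m, hm⟩ := exists_pow_eq_self_of_coprime hcop
    have hxu : x * u = u * x := by
      have : Commute x ((u ^ Nat.card (compOf r M)) ^ m) :=
        (show Commute x (u ^ Nat.card (compOf r M)) from hxun).pow_right m
      rw [hm] at this
      exact this
    rw [← mul_assoc, hxu, mul_assoc, hxc, mul_assoc]
  have hxN : x ∈ N :=
    mem_of_centralizes_Q hQ hN (FOf_le_FsOf M (pCoreOf_le_FOf r M hx)) hxQ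
  exact hAB a ha x ⟨hx, hxN⟩

/-- A `q`-subgroup of `M` normalized by `N ∩ M` is trivial when `q ∤ |F(M)|`. -/
theorem eq_bot_of_not_dvd {q : ℕ} [hq : Fact q.Prime]
    (hqF : ¬ q ∣ Nat.card (fittingSubgroup ↥M)) {W : Subgroup G} (hWM : W ≤ M)
    (hW : IsPGroup q W) (hWn : N ⊓ M ≤ normalizer (W : Set G)) : W = ⊥ := by
  have hWF : W ≤ FOf M := by
    intro w hw
    -- `w` commutes with every `O_r(M)`
    have hall : ∀ r : ℕ, r.Prime → ∀ y ∈ Cfsg.pCoreOf r M, w * y = y * w := by
      intro r hr y hy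
      have : Fact r.Prime := ⟨hr⟩
      by_cases hqr : q = r
      · subst hqr
        rw [pCoreOf_eq_bot_of_not_dvd hqF, Subgroup.mem_bot] at hy
        rw [hy, mul_one, one_mul]
      · exact centralizes_pCoreOf hQ hN hqr hWM hW hWn w hw y hy
    apply mem_FOf_of_centralizes (hWM hw)
    · intro e he
      have hsolv : Group.IsSolvable W := by
        have : Group.IsNilpotent W := hW.isNilpotent
        infer_instance
      exact centralizes_EOf hWM hsolv
        ((le_inf (EOf_le_of_leads hQ hN) (EOf_le M)).trans hWn) e he w hw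
    · intro f hf
      obtain ⟨u, hu, c, hc, rfl⟩ := exists_decomp q M hf
      have h1 : w * u = u * w := hall q hq.out u hu
      have h2 : w * c = c * w := comm_compOf (fun s hs _ b hb => hall s hs b hb) c hc
      rw [mul_assoc, ← h2, ← mul_assoc, ← h1, mul_assoc]
  apply Subgroup.eq_bot_of_card_eq
  obtain ⟨k, hk⟩ := IsPGroup.iff_card.mp hW
  have hdvd : Nat.card W ∣ Nat.card (fittingSubgroup ↥M) := by
    rw [← card_FOf]; exact Subgroup.card_dvd_of_le hWF
  rcases Nat.eq_zero_or_pos k with h0 | h0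
  · rw [hk, h0, pow_zero]
  · exact absurd ((dvd_pow_self q h0.ne').trans (hk ▸ hdvd)) hqF

/-- Part (ii) of Bender's theorem: a `q`-subgroup normalized by `N`, with `q ∤ |F(M)|`, meets
`M` trivially. -/
theorem inf_eq_bot_of_not_dvd {q : ℕ} [hq : Fact q.Prime]
    (hqF : ¬ q ∣ Nat.card (fittingSubgroup ↥M)) {X : Subgroup G} (hX : IsPGroup q X)
    (hXn : N ≤ normalizer (X : Set G)) : X ⊓ M = ⊥ :=
  eq_bot_of_not_dvd hQ hN hqF inf_le_right (hX.to_le inf_le_left)
    (le_normalizer_inf' (inf_le_left.trans hXn) (inf_le_right.trans le_normalizer))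

/-- Part (i) of Bender's theorem: a `q`-subgroup normalized by `N` lies in `M` when `q` and a
second prime `r` divide `|F(M)|`. -/
theorem le_of_dvd [IsSimpleGroup G] (hM : IsCoatom M) {q r : ℕ} [hq : Fact q.Prime]
    [hr : Fact r.Prime] (hqr : q ≠ r) (hqF : q ∣ Nat.card (fittingSubgroup ↥M))
    (hrF : r ∣ Nat.card (fittingSubgroup ↥M)) {X : Subgroup G} (hX : IsPGroup q X)
    (hXn : N ≤ normalizer (X : Set G)) : X ≤ M := by
  have hZr : ZOf r M ≠ ⊥ := ZOf_ne_bot (pCoreOf_ne_bot_of_dvd hrF)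
  have hZq : ZOf q M ≠ ⊥ := ZOf_ne_bot (pCoreOf_ne_bot_of_dvd hqF)
  have hCr : centralizer ((ZOf r M : Subgroup G) : Set G) ≤ M :=
    centralizer_le_of_coatom hM hZr (ZOf_le r M) (le_normalizer_ZOf r M)
  have hCq : centralizer ((ZOf q M : Subgroup G) : Set G) ≤ M :=
    centralizer_le_of_coatom hM hZq (ZOf_le q M) (le_normalizer_ZOf q M)
  have hZrN : ZOf r M ≤ N := ZOf_le_of_leads hQ hN r
  have hZqN : ZOf q M ≤ N := ZOf_le_of_leads hQ hN q
  have hcop : (Nat.card (ZOf r M)).Coprime q := by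
    obtain ⟨k, hk⟩ := IsPGroup.iff_card.mp (isPGroup_ZOf r M)
    rw [hk]
    exact Nat.Coprime.pow_left k ((Nat.coprime_primes hr.out hq.out).mpr (Ne.symm hqr))
  have hdisj : X ⊓ ZOf r M = ⊥ := by
    have hd : Disjoint X (ZOf r M) := by
      apply Subgroup.disjoint_of_coprime_natCard
      obtain ⟨k, hk⟩ := IsPGroup.iff_card.mp hX
      rw [hk]
      exact (Nat.Coprime.pow_right k hcop).symm
    exact hd.eq_bot
  have key := thompson_AxB (ZOf r M) (ZOf q M) X (isPGroup_ZOf q M) hcop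
    (fun a ha b hb => ZOf_comm_FOf r M a ha b (pCoreOf_le_FOf q M hb.1)) hX
    (hZrN.trans hXn) (hZqN.trans hXn)
    (by
      intro a ha x hx hxB
      have hxM : x ∈ M := by
        apply hCq
        rw [Subgroup.mem_centralizer_iff]
        intro b hb
        exact hxB b hb
      have h1 : a * x * a⁻¹ * x⁻¹ ∈ X :=
        mul_mem (conj_mem_of_le_normalizer (hZrN.trans hXn) ha hx) (inv_mem hx)
      have h2 : a * x * a⁻¹ * x⁻¹ ∈ ZOf r M := by
        have e : a * x * a⁻¹ * x⁻¹ = a * (x * a⁻¹ * x⁻¹) := by group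
        rw [e]
        exact mul_mem ha (conj_mem_of_le_normalizer (le_normalizer_ZOf r M) hxM (inv_mem ha))
      have h3 : a * x * a⁻¹ * x⁻¹ ∈ X ⊓ ZOf r M := ⟨h1, h2⟩
      rw [hdisj, Subgroup.mem_bot] at h3
      calc a * x = (a * x * a⁻¹ * x⁻¹) * x * a := by group
        _ = x * a := by rw [h3, one_mul])
  intro x hx
  apply hCr
  rw [Subgroup.mem_centralizer_iff]
  intro a ha
  exact key a ha x hx

end leads

/-- A Sylow subgroup of `F(N)`, viewed in `G`, is a `q`-group normalized by `N`. -/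
theorem sylow_fitting_normalized (N : Subgroup G) {q : ℕ} [Fact q.Prime]
    (R : Sylow q ↥(fittingSubgroup ↥N)) :
    IsPGroup q ↥(((R : Subgroup ↥(fittingSubgroup ↥N)).map (fittingSubgroup ↥N).subtype).map
        N.subtype) ∧
      N ≤ normalizer (((((R : Subgroup ↥(fittingSubgroup ↥N)).map
        (fittingSubgroup ↥N).subtype).map N.subtype : Subgroup G)) : Set G) := by
  refine ⟨(R.isPGroup'.map _).map _, ?_⟩
  have hnil : Group.IsNilpotent ↥(fittingSubgroup ↥N) := Cfsg.Agent.H27.fitting_nilpotent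
  have htfae := (Group.isNilpotent_of_finite_tfae (G := ↥(fittingSubgroup ↥N))).out 0 3
  have hRn : (R : Subgroup ↥(fittingSubgroup ↥N)).Normal := (htfae.1 hnil) q inferInstance R
  have hRc : (R : Subgroup ↥(fittingSubgroup ↥N)).Characteristic :=
    Sylow.characteristic_of_normal R hRn
  have hn : ((R : Subgroup ↥(fittingSubgroup ↥N)).map (fittingSubgroup ↥N).subtype).Normal :=
    ConjAct.normal_of_characteristic_of_normal
  exact le_normalizer_map_subtype N _

end finite

end Cfsg.Agent.H31.X.H37.Bender
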