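import Mathlib
import Cfsg.Agent.H31.X.Bender

-- helper31: verbatim copy of `Cfsg.Agent.H37.BenderSymm` under the namespace prefix `Cfsg.Agent.H31.X`
-- (so that it can be loaded together with `Cfsg.Agent.H29.ThompsonInt`, which declares the
-- same name `Cfsg.Agent.H29.map_symm_map` as `Cfsg.Agent.H29.Transport`).

set_option autoImplicit false
set_option linter.unusedSectionVars false

/-!
# Bender's theorem on pairs of maximal subgroups, symmetric case (helper37, for S1857)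

`bender_symm` : in a finite simple group, maximal subgroups `M`, `N` with `M ⇝ N` and `N ⇝ M`
are equal, or `F*(M)` and `F*(N)` are `p`-groups for one prime `p`.
-/

namespace Cfsg.Agent.H31.X.H37.Bender

open Cfsg.Agent.H37

open Cfsg Subgroup Cfsg.Agent.H54 Cfsg.Agent.H31.X.H54

universe u

variable {G : Type u} [Group G]

theorem mem_centralizer_of_comm {H : Subgroup G} {y : G} (h : ∀ v ∈ H, y * v = v * y) :
    y ∈ centralizer (H : Set G) := by
  rw [Subgroup.mem_centralizer_iff]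
  intro v hv
  exact (h v hv).symm

theorem comm_of_mem_centralizer {H : Subgroup G} {y : G} (h : y ∈ centralizer (H : Set G)) :
    ∀ v ∈ H, y * v = v * y :=
  fun v hv => (Subgroup.mem_centralizer_iff.mp h v hv).symm

/-- A subgroup whose conjugation action preserves a set normalizes the closure of the set. -/
theorem le_normalizer_closure {K : Subgroup G} {S : Set G}
    (h : ∀ g ∈ K, ∀ x ∈ S, g * x * g⁻¹ ∈ S) :
    K ≤ normalizer ((Subgroup.closure S : Subgroup G) : Set G) := by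
  apply le_normalizer_of_conj_mem
  intro g hg x hx
  induction hx using Subgroup.closure_induction with
  | mem y hy => exact Subgroup.subset_closure (h g hg y hy)
  | one => simp
  | mul y z _ _ ihy ihz =>
    have e : g * (y * z) * g⁻¹ = (g * y * g⁻¹) * (g * z * g⁻¹) := by group
    rw [e]; exact mul_mem ihy ihz
  | inv y _ ih =>
    have e : g * y⁻¹ * g⁻¹ = (g * y * g⁻¹)⁻¹ := by group
    rw [e]; exact inv_mem ih

/-- Two subgroups normalizing each other and meeting trivially commute. -/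
theorem comm_of_normalize_of_disjoint {A B : Subgroup G} (hAB : A ≤ normalizer (B : Set G))
    (hBA : B ≤ normalizer (A : Set G)) (hd : A ⊓ B = ⊥) : ∀ a ∈ A, ∀ b ∈ B, a * b = b * a := by
  intro a ha b hb
  have h1 : a * b * a⁻¹ * b⁻¹ ∈ B := mul_mem (conj_mem_of_le_normalizer hAB ha hb) (inv_mem hb)
  have h2 : a * b * a⁻¹ * b⁻¹ ∈ A := by
    have e : a * b * a⁻¹ * b⁻¹ = a * (b * a⁻¹ * b⁻¹) := by group
    rw [e]
    exact mul_mem ha (conj_mem_of_le_normalizer hBA hb (inv_mem ha))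
  have h3 : a * b * a⁻¹ * b⁻¹ ∈ A ⊓ B := ⟨h2, h1⟩
  rw [hd, Subgroup.mem_bot] at h3
  calc a * b = (a * b * a⁻¹ * b⁻¹) * b * a := by group
    _ = b * a := by rw [h3, one_mul]

/-- The subgroup generated by the elements of `K` of order prime to `p`. -/
def cop (p : ℕ) (K : Subgroup G) : Subgroup G :=
  Subgroup.closure {x : G | x ∈ K ∧ (orderOf x).Coprime p}

theorem cop_le (p : ℕ) (K : Subgroup G) : cop p K ≤ K := by
  unfold cop
  rw [Subgroup.closure_le]
  exact fun x hx => hx.1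

theorem cop_mono (p : ℕ) {K L : Subgroup G} (h : K ≤ L) : cop p K ≤ cop p L :=
  Subgroup.closure_mono (fun x hx => ⟨h hx.1, hx.2⟩)

section finite

variable [Finite G]

/-- A perfect subgroup of a finite group is generated by its `p'`-elements. -/
theorem cop_eq_of_perfect (p : ℕ) [hp : Fact p.Prime] (K : Subgroup G) (hperf : ⁅K, K⁆ = K) :
    cop p K = K := by
  have hle : cop p K ≤ K := cop_le p K
  apply le_antisymm hle
  have hn : ((cop p K).subgroupOf K).Normal := by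
    rw [Subgroup.normal_subgroupOf_iff hle]
    intro h k hh hk
    have hcl : cop p K ≤ (cop p K).comap (MulAut.conj k).toMonoidHom := by
      unfold cop
      rw [Subgroup.closure_le]
      rintro x ⟨hxK, hxo⟩
      have e1 : orderOf (k * x * k⁻¹) = orderOf x := (MulAut.conj k).orderOf_eq x
      have h5 : k * x * k⁻¹ ∈ {x : G | x ∈ K ∧ (orderOf x).Coprime p} :=
        ⟨mul_mem (mul_mem hk hxK) (inv_mem hk), by rw [e1]; exact hxo⟩
      exact Subgroup.subset_closure h5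
    exact hcl hh
  have h2 : IsPGroup p (↥K ⧸ (cop p K).subgroupOf K) := by
    intro q
    obtain ⟨g, rfl⟩ := QuotientGroup.mk_surjective q
    obtain ⟨a, m, hm, ho⟩ :=
      Nat.exists_eq_pow_mul_and_not_dvd (orderOf_pos (g : G)).ne' p hp.out.ne_one
    refine ⟨a, ?_⟩
    rw [← QuotientGroup.mk_pow, QuotientGroup.eq_one_iff, Subgroup.mem_subgroupOf]
    apply Subgroup.subset_closure
    refine ⟨?_, ?_⟩
    · rw [Subgroup.coe_pow]; exact pow_mem g.2 _
    · rw [Subgroup.coe_pow]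
      have hd : orderOf ((g : G) ^ p ^ a) ∣ m :=
        orderOf_dvd_of_pow_eq_one (by rw [← pow_mul, ← ho, pow_orderOf_eq_one])
      exact Nat.Coprime.coprime_dvd_left hd
        ((Nat.Prime.coprime_iff_not_dvd hp.out).mpr hm).symm
  have hperf' : Group.IsPerfect ↥K := Subgroup.isPerfect_iff.mpr hperf
  have : Group.IsNilpotent (↥K ⧸ (cop p K).subgroupOf K) := h2.isNilpotent
  have hsub : Subsingleton (↥K ⧸ (cop p K).subgroupOf K) := by
    by_contra hns
    rw [not_subsingleton_iff_nontrivial] at hns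
    exact Group.IsPerfect.not_isSolvable (↥K ⧸ (cop p K).subgroupOf K) inferInstance
  intro g hg
  have h3 : ((⟨g, hg⟩ : K) : ↥K ⧸ (cop p K).subgroupOf K) = 1 := Subsingleton.elim _ _
  rw [QuotientGroup.eq_one_iff, Subgroup.mem_subgroupOf] at h3
  exact h3

/-- `E(M)` is generated by its `p'`-elements. -/
theorem cop_EOf (p : ℕ) [Fact p.Prime] (M : Subgroup G) : cop p (EOf M) = EOf M := by
  apply le_antisymm (cop_le p _)
  show (layer ↥M).map M.subtype ≤ cop p (EOf M)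
  rw [Subgroup.map_le_iff_le_comap]
  apply sSup_le
  intro K hK
  rw [← Subgroup.map_le_iff_le_comap]
  have hperf : ⁅K.map M.subtype, K.map M.subtype⁆ = K.map M.subtype := by
    rw [← Subgroup.map_commutator, Cfsg.Agent.H27.isComponent_perfect hK]
  calc K.map M.subtype = cop p (K.map M.subtype) := (cop_eq_of_perfect p _ hperf).symm
    _ ≤ cop p (EOf M) :=
      cop_mono p (Subgroup.map_mono (Cfsg.Agent.H27.isComponent_le_layer hK))

/-- If the `p'`-elements of `E(M)` centralize `W`, then `E(M)` centralizes `W`. -/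
theorem EOf_comm_of_cop (p : ℕ) [Fact p.Prime] (M : Subgroup G) {W : Subgroup G}
    (h : ∀ x ∈ EOf M, (orderOf x).Coprime p → ∀ w ∈ W, x * w = w * x) :
    ∀ e ∈ EOf M, ∀ w ∈ W, e * w = w * e := by
  have hle : cop p (EOf M) ≤ centralizer (W : Set G) := by
    unfold cop
    rw [Subgroup.closure_le]
    rintro x ⟨hx, hxo⟩
    exact mem_centralizer_of_comm (h x hx hxo)
  rw [cop_EOf] at hle
  intro e he
  exact comm_of_mem_centralizer (hle he)

/-- A nontrivial layer contains a nontrivial `p'`-element. -/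
theorem exists_cop_EOf (p : ℕ) [Fact p.Prime] {M : Subgroup G} (h : EOf M ≠ ⊥) :
    ∃ x ∈ EOf M, x ≠ 1 ∧ (orderOf x).Coprime p := by
  by_contra hcon
  apply h
  rw [← cop_EOf p M, eq_bot_iff]
  unfold cop
  rw [Subgroup.closure_le]
  rintro x ⟨hx, hxo⟩
  by_contra hx1
  exact hcon ⟨x, hx, fun h1 => hx1 (by rw [h1]; exact (⊥ : Subgroup G).one_mem), hxo⟩

/-- The key commutation step: `r'`-elements of `C_N(O_r(N))` centralize `O_r(M)`. -/
theorem comm_of_coprime {r : ℕ} [hr : Fact r.Prime] {M N : Subgroup G}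
    (hMN : Cfsg.pCoreOf r M ≤ N)
    (hE : ∀ a ∈ Cfsg.pCoreOf r M, ∀ e ∈ EOf N, a * e = e * a)
    (hS : ∀ s : ℕ, s.Prime → s ≠ r → ∀ a ∈ Cfsg.pCoreOf r M, ∀ b ∈ Cfsg.pCoreOf s N,
      a * b = b * a)
    {x : G} (hxN : x ∈ N) (hxc : ∀ v ∈ Cfsg.pCoreOf r N, x * v = v * x)
    (hxo : (orderOf x).Coprime r) :
    ∀ a ∈ Cfsg.pCoreOf r M, x * a = a * x := by
  intro a ha
  have haN : a ∈ N := hMN ha
  have hbN : x * a * x⁻¹ ∈ N := mul_mem (mul_mem hxN haN) (inv_mem hxN)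
  have hζN : a⁻¹ * (x * a * x⁻¹) ∈ N := mul_mem (inv_mem haN) hbN
  have haE : a ∈ centralizer ((EOf N : Subgroup G) : Set G) := mem_centralizer_of_comm (hE a ha)
  have hbE : x * a * x⁻¹ ∈ centralizer ((EOf N : Subgroup G) : Set G) :=
    conj_mem_of_le_normalizer
      ((le_normalizer_EOf N).trans (normalizer_le_normalizer_centralizer _)) hxN haE
  have hζE : ∀ e ∈ EOf N, (a⁻¹ * (x * a * x⁻¹)) * e = e * (a⁻¹ * (x * a * x⁻¹)) :=
    comm_of_mem_centralizer (mul_mem (inv_mem haE) hbE)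
  have hζS : ∀ s : ℕ, s.Prime → s ≠ r → ∀ b ∈ Cfsg.pCoreOf s N,
      (a⁻¹ * (x * a * x⁻¹)) * b = b * (a⁻¹ * (x * a * x⁻¹)) := by
    intro s hs hsr
    have : Fact s.Prime := ⟨hs⟩
    have haS : a ∈ centralizer ((Cfsg.pCoreOf s N : Subgroup G) : Set G) :=
      mem_centralizer_of_comm (hS s hs hsr a ha)
    have hbS : x * a * x⁻¹ ∈ centralizer ((Cfsg.pCoreOf s N : Subgroup G) : Set G) :=
      conj_mem_of_le_normalizer
        ((le_normalizer_pCoreOf N).trans (normalizer_le_normalizer_centralizer _)) hxN haS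
    exact comm_of_mem_centralizer (mul_mem (inv_mem haS) hbS)
  have hζR : ∀ v ∈ Cfsg.pCoreOf r N,
      (a⁻¹ * (x * a * x⁻¹)) * v = v * (a⁻¹ * (x * a * x⁻¹)) := by
    intro v hv
    have hw : a * v * a⁻¹ ∈ Cfsg.pCoreOf r N :=
      conj_mem_of_le_normalizer (le_normalizer_pCoreOf N) haN hv
    have h2 : x * (a * v * a⁻¹) = (a * v * a⁻¹) * x := hxc _ hw
    have h3 : x⁻¹ * v = v * x⁻¹ := (Commute.inv_left (show Commute x v from hxc v hv)).eq
    calc a⁻¹ * (x * a * x⁻¹) * v = a⁻¹ * (x * a) * (x⁻¹ * v) := by group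
      _ = a⁻¹ * (x * a) * (v * x⁻¹) := by rw [h3]
      _ = a⁻¹ * (x * (a * v * a⁻¹)) * a * x⁻¹ := by group
      _ = a⁻¹ * ((a * v * a⁻¹) * x) * a * x⁻¹ := by rw [h2]
      _ = v * (a⁻¹ * (x * a * x⁻¹)) := by group
  have hζC : ∀ c ∈ compOf r N, (a⁻¹ * (x * a * x⁻¹)) * c = c * (a⁻¹ * (x * a * x⁻¹)) :=
    comm_compOf hζS
  have hζF : a⁻¹ * (x * a * x⁻¹) ∈ FOf N := by
    apply mem_FOf_of_centralizes hζN
    · intro e he; exact (hζE e he).symm
    · intro f hf
      obtain ⟨u, hu, c, hc, rfl⟩ := exists_decomp r N hf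
      have h1 := hζR u hu
      have h2 := hζC c hc
      rw [mul_assoc, ← h2, ← mul_assoc, ← h1, mul_assoc]
  obtain ⟨u, hu, c, hc, huc⟩ := exists_decomp r N hζF
  have hxa : x * a * x⁻¹ = a * u * c := by
    rw [mul_assoc a u c, huc]; group
  have hac : a * c = c * a := comm_compOf (fun s hs hsr b hb => hS s hs hsr a ha b hb) c hc
  have huc' : u * c = c * u :=
    Subgroup.mem_centralizer_iff.mp (compOf_le_centralizer r N hc) u hu
  obtain ⟨k₁, hk₁⟩ := (isPGroup_pCoreOf (p := r) M) ⟨a, ha⟩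
  have hk₁' : a ^ r ^ k₁ = 1 := by simpa using congrArg Subtype.val hk₁
  have hP : IsPGroup r ↥(Subgroup.zpowers a ⊔ Cfsg.pCoreOf r N) := by
    apply IsPGroup.to_sup_of_normal_right'
    · exact (isPGroup_pCoreOf (p := r) M).to_le (Subgroup.zpowers_le.mpr ha)
    · exact isPGroup_pCoreOf N
    · exact (Subgroup.zpowers_le.mpr haN).trans (le_normalizer_pCoreOf N)
  obtain ⟨k₂, hk₂⟩ := hP ⟨a * u,
    mul_mem (Subgroup.mem_sup_left (Subgroup.mem_zpowers a)) (Subgroup.mem_sup_right hu)⟩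
  have hk₂' : (a * u) ^ r ^ k₂ = 1 := by simpa using congrArg Subtype.val hk₂
  have hc1 : c = 1 := by
    have hcomm : Commute (a * u) c := by
      show a * u * c = c * (a * u)
      rw [mul_assoc, huc', ← mul_assoc, hac, mul_assoc]
    have h1 : (a * u * c) ^ (r ^ (k₁ + k₂)) = 1 := by
      rw [← hxa, conj_pow, pow_add, pow_mul, hk₁', one_pow]; group
    have h2 : (a * u) ^ (r ^ (k₁ + k₂)) = 1 := by
      rw [pow_add, mul_comm, pow_mul, hk₂', one_pow]
    have h3 : c ^ (r ^ (k₁ + k₂)) = 1 := by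
      rw [hcomm.mul_pow, h2, one_mul] at h1
      exact h1
    have hd1 : orderOf c ∣ r ^ (k₁ + k₂) := orderOf_dvd_of_pow_eq_one h3
    have hd2 : orderOf c ∣ Nat.card (compOf r N) := by
      have := orderOf_dvd_natCard (⟨c, hc⟩ : compOf r N)
      rwa [Subgroup.orderOf_mk] at this
    have hcop : (orderOf c).Coprime (r ^ (k₁ + k₂)) :=
      Nat.Coprime.pow_right _ (Nat.Coprime.coprime_dvd_left hd2 (card_compOf_coprime r N))
    exact orderOf_eq_one_iff.mp (Nat.Coprime.eq_one_of_dvd hcop hd1)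
  rw [hc1, mul_one] at hxa
  have hind : ∀ m : ℕ, x ^ m * a * (x ^ m)⁻¹ = a * u ^ m := by
    intro m
    induction m with
    | zero => simp
    | succ m ih =>
      have hxum : x * u ^ m = u ^ m * x := ((show Commute x u from hxc u hu).pow_right m).eq
      calc x ^ (m + 1) * a * (x ^ (m + 1))⁻¹ = x * (x ^ m * a * (x ^ m)⁻¹) * x⁻¹ := by
            rw [pow_succ']; group
        _ = x * (a * u ^ m) * x⁻¹ := by rw [ih]
        _ = (x * a * x⁻¹) * (x * u ^ m) * x⁻¹ := by group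
        _ = (x * a * x⁻¹) * (u ^ m * x) * x⁻¹ := by rw [hxum]
        _ = a * u * u ^ m := by rw [hxa]; group
        _ = a * u ^ (m + 1) := by rw [pow_succ', mul_assoc]
  have h5 := hind (orderOf x)
  rw [pow_orderOf_eq_one] at h5
  have h6 : u ^ orderOf x = 1 := by
    have : a * u ^ orderOf x = a * 1 := by rw [← h5]; group
    exact mul_left_cancel this
  have hu1 : u = 1 := by
    apply eq_one_of_mem_pgroup_of_coprime (isPGroup_pCoreOf (p := r) N) hu
    exact Nat.Coprime.coprime_dvd_left (orderOf_dvd_of_pow_eq_one h6) hxo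
  rw [hu1, mul_one] at hxa
  calc x * a = (x * a * x⁻¹) * x := by group
    _ = a * x := by rw [hxa]

/-- The `Ψ`-argument: if the `r'`-elements of `C(O_r(M))` and `C(O_r(N))` coincide and one of
them is nontrivial, the maximal subgroups `M` and `N` coincide. -/
theorem eq_of_psi [IsSimpleGroup G] {r : ℕ} [hr : Fact r.Prime] {M N : Subgroup G}
    (hM : IsCoatom M) (hN : IsCoatom N)
    (hMr : Cfsg.pCoreOf r M ≠ ⊥) (hNr : Cfsg.pCoreOf r N ≠ ⊥)
    (hMN : ∀ x ∈ N, (∀ v ∈ Cfsg.pCoreOf r N, x * v = v * x) → (orderOf x).Coprime r →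
      ∀ a ∈ Cfsg.pCoreOf r M, x * a = a * x)
    (hNM : ∀ x ∈ M, (∀ v ∈ Cfsg.pCoreOf r M, x * v = v * x) → (orderOf x).Coprime r →
      ∀ a ∈ Cfsg.pCoreOf r N, x * a = a * x)
    (hex : ∃ x : G, x ≠ 1 ∧ (∀ v ∈ Cfsg.pCoreOf r M, x * v = v * x) ∧ (orderOf x).Coprime r) :
    M = N := by
  have hCM : centralizer ((Cfsg.pCoreOf r M : Subgroup G) : Set G) ≤ M :=
    centralizer_le_of_coatom hM hMr (pCoreOf_le M) (le_normalizer_pCoreOf M)
  have hCN : centralizer ((Cfsg.pCoreOf r N : Subgroup G) : Set G) ≤ N :=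
    centralizer_le_of_coatom hN hNr (pCoreOf_le N) (le_normalizer_pCoreOf N)
  have hset : {x : G | x ∈ centralizer ((Cfsg.pCoreOf r M : Subgroup G) : Set G) ∧
        (orderOf x).Coprime r} =
      {x : G | x ∈ centralizer ((Cfsg.pCoreOf r N : Subgroup G) : Set G) ∧
        (orderOf x).Coprime r} := by
    ext x
    constructor
    · rintro ⟨hx, hxo⟩
      exact ⟨mem_centralizer_of_comm (hNM x (hCM hx) (comm_of_mem_centralizer hx) hxo), hxo⟩
    · rintro ⟨hx, hxo⟩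
      exact ⟨mem_centralizer_of_comm (hMN x (hCN hx) (comm_of_mem_centralizer hx) hxo), hxo⟩
  have key : ∀ K : Subgroup G, IsCoatom K → Cfsg.pCoreOf r K ≠ ⊥ →
      (∃ x : G, x ≠ 1 ∧ x ∈ {x : G | x ∈ centralizer ((Cfsg.pCoreOf r K : Subgroup G) : Set G) ∧
        (orderOf x).Coprime r}) →
      normalizer ((Subgroup.closure {x : G | x ∈ centralizer
        ((Cfsg.pCoreOf r K : Subgroup G) : Set G) ∧ (orderOf x).Coprime r} : Subgroup G) : Set G)
        = K := by
    rintro K hK hKr ⟨x, hx1, hxS⟩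
    have hCK : centralizer ((Cfsg.pCoreOf r K : Subgroup G) : Set G) ≤ K :=
      centralizer_le_of_coatom hK hKr (pCoreOf_le K) (le_normalizer_pCoreOf K)
    apply normalizer_eq_of_coatom hK
    · intro hbot
      have hxcl : x ∈ Subgroup.closure {x : G | x ∈ centralizer
          ((Cfsg.pCoreOf r K : Subgroup G) : Set G) ∧ (orderOf x).Coprime r} :=
        Subgroup.subset_closure hxS
      rw [hbot, Subgroup.mem_bot] at hxcl
      exact hx1 hxcl
    · rw [Subgroup.closure_le]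
      intro y hy
      exact hCK hy.1
    · apply le_normalizer_closure
      intro g hg y hy
      refine ⟨conj_mem_of_le_normalizer
        ((le_normalizer_pCoreOf K).trans (normalizer_le_normalizer_centralizer _)) hg hy.1, ?_⟩
      have e1 : orderOf (g * y * g⁻¹) = orderOf y := (MulAut.conj g).orderOf_eq y
      rw [e1]; exact hy.2
  obtain ⟨x, hx1, hxc, hxo⟩ := hex
  have hxM : x ∈ {x : G | x ∈ centralizer ((Cfsg.pCoreOf r M : Subgroup G) : Set G) ∧
      (orderOf x).Coprime r} := ⟨mem_centralizer_of_comm hxc, hxo⟩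
  have h1 := key M hM hMr ⟨x, hx1, hxM⟩
  have h2 := key N hN hNr ⟨x, hx1, hset ▸ hxM⟩
  rw [hset] at h1
  exact h1.symm.trans h2

/-- One direction of the hypotheses of `eq_of_psi`, from mutual containment of the cores. -/
theorem cores_dir {M N : Subgroup G} (hEN : EOf N ≤ M)
    (hNM : ∀ q : ℕ, q.Prime → Cfsg.pCoreOf q N ≤ M)
    (hMN : ∀ q : ℕ, q.Prime → Cfsg.pCoreOf q M ≤ N)
    {r : ℕ} [hr : Fact r.Prime] {x : G} (hxN : x ∈ N)
    (hxc : ∀ v ∈ Cfsg.pCoreOf r N, x * v = v * x) (hxo : (orderOf x).Coprime r) :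
    ∀ a ∈ Cfsg.pCoreOf r M, x * a = a * x := by
  apply comm_of_coprime (hMN r hr.out) ?_ ?_ hxN hxc hxo
  · intro a ha e he
    have hsolv : Group.IsSolvable ↥(Cfsg.pCoreOf r M) := by
      have : Group.IsNilpotent ↥(Cfsg.pCoreOf r M) := (isPGroup_pCoreOf (p := r) M).isNilpotent
      infer_instance
    exact (centralizes_EOf (M := N) (W := Cfsg.pCoreOf r M) (hMN r hr.out) hsolv
      (hEN.trans (le_normalizer_pCoreOf M)) e he a ha).symm
  · intro s hs hsr a ha b hb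
    have : Fact s.Prime := ⟨hs⟩
    exact comm_of_normalize_of_disjoint ((hMN r hr.out).trans (le_normalizer_pCoreOf N))
      ((hNM s hs).trans (le_normalizer_pCoreOf M))
      (IsPGroup.disjoint_of_ne r s (Ne.symm hsr) _ _ (isPGroup_pCoreOf M)
        (isPGroup_pCoreOf N)).eq_bot a ha b hb

/-- Maximal subgroups containing each other's layers and `O_q`'s coincide, given a nontrivial
`r'`-element centralizing `O_r(M)`. -/
theorem eq_of_cores [IsSimpleGroup G] {M N : Subgroup G} (hM : IsCoatom M) (hN : IsCoatom N)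
    (hEM : EOf M ≤ N) (hEN : EOf N ≤ M)
    (hNM : ∀ q : ℕ, q.Prime → Cfsg.pCoreOf q N ≤ M)
    (hMN : ∀ q : ℕ, q.Prime → Cfsg.pCoreOf q M ≤ N)
    {r : ℕ} [Fact r.Prime] (hMr : Cfsg.pCoreOf r M ≠ ⊥) (hNr : Cfsg.pCoreOf r N ≠ ⊥)
    (hex : ∃ x : G, x ≠ 1 ∧ (∀ v ∈ Cfsg.pCoreOf r M, x * v = v * x) ∧ (orderOf x).Coprime r) :
    M = N :=
  eq_of_psi hM hN hMr hNr (fun _ hx hxc hxo => cores_dir hEN hNM hMN hx hxc hxo)
    (fun _ hx hxc hxo => cores_dir hEM hMN hNM hx hxc hxo) hex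

/-- For `M ⇝ N` and `N ⇝ M`, a prime dividing `|F(M)|` divides `|F(N)|`. -/
theorem dvd_of_dvd {M N Q Q' : Subgroup G} (hQ : Q ≤ FOf M)
    (hN : FsOf M ⊓ normalizer (Q : Set G) ≤ N)
    (hQ' : Q' ≤ FOf N) (hM' : FsOf N ⊓ normalizer (Q' : Set G) ≤ M) {s : ℕ} [Fact s.Prime]
    (h : s ∣ Nat.card (fittingSubgroup ↥M)) : s ∣ Nat.card (fittingSubgroup ↥N) := by
  by_contra hn
  have h1 : ZOf s M ⊓ N = ⊥ :=
    inf_eq_bot_of_not_dvd hQ' hM' hn (isPGroup_ZOf s M) (le_normalizer_ZOf s M)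
  have h2 : ZOf s M ≤ N := ZOf_le_of_leads hQ hN s
  have h3 : ZOf s M ≠ ⊥ := ZOf_ne_bot (pCoreOf_ne_bot_of_dvd h)
  exact h3 (by rw [← h1]; exact (inf_eq_left.mpr h2).symm)

theorem pCoreOf_eq_bot_of_isPGroup {p q : ℕ} [hp : Fact p.Prime] [hq : Fact q.Prime] (hne : q ≠ p)
    {M : Subgroup G} (hF : IsPGroup p (fittingSubgroup ↥M)) : Cfsg.pCoreOf q M = ⊥ := by
  apply pCoreOf_eq_bot_of_not_dvd
  intro hd
  obtain ⟨k, hk⟩ := IsPGroup.iff_card.mp hF
  rw [hk] at hd
  exact hne ((Nat.prime_dvd_prime_iff_eq hq.out hp.out).mp (hq.out.dvd_of_dvd_pow hd))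

/-- `M ⇝ N`, `p`-group `F(M)`: the layer of `M` centralizes `O_p(N)`. -/
theorem EOf_comm_pCoreOf [IsSimpleGroup G] {M N Q : Subgroup G} (hQ : Q ≤ FOf M)
    (hN : FsOf M ⊓ normalizer (Q : Set G) ≤ N) (hM : IsCoatom M) {p : ℕ} [Fact p.Prime]
    (hp : Cfsg.pCoreOf p M ≠ ⊥) :
    ∀ e ∈ EOf M, ∀ w ∈ Cfsg.pCoreOf p N, e * w = w * e := by
  apply EOf_comm_of_cop p M
  intro x hx hxo
  have hxN : x ∈ N := EOf_le_of_leads hQ hN hx
  have hZ : ZOf p M ≠ ⊥ := ZOf_ne_bot hp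
  have hCZ : centralizer ((ZOf p M : Subgroup G) : Set G) ≤ M :=
    centralizer_le_of_coatom hM hZ (ZOf_le p M) (le_normalizer_ZOf p M)
  apply thompson_AxB_elt x (ZOf p M) (Cfsg.pCoreOf p N) (isPGroup_ZOf p M) hxo
    (fun b hb => EOf_comm_FOf M x hx b (pCoreOf_le_FOf p M hb.1)) (isPGroup_pCoreOf N)
    (le_normalizer_pCoreOf N hxN) ((ZOf_le_of_leads hQ hN p).trans (le_normalizer_pCoreOf N))
  intro y hy hyB
  have hyM : y ∈ M := hCZ (by
    rw [Subgroup.mem_centralizer_iff]; intro b hb; exact hyB b hb)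
  have hW : ∀ e ∈ EOf M, ∀ w ∈ Cfsg.pCoreOf p N ⊓ M, e * w = w * e := by
    apply centralizes_EOf inf_le_right
    · have : Group.IsNilpotent ↥(Cfsg.pCoreOf p N ⊓ M) :=
        ((isPGroup_pCoreOf (p := p) N).to_le inf_le_left).isNilpotent
      infer_instance
    · exact le_normalizer_inf' ((EOf_le_of_leads hQ hN).trans (le_normalizer_pCoreOf N))
        ((EOf_le M).trans le_normalizer)
  exact hW x hx y ⟨hy, hyM⟩

/-- The single-prime case with a nontrivial layer. -/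
theorem eq_of_layer_ne_bot [IsSimpleGroup G] {M N Q Q' : Subgroup G} (hM : IsCoatom M)
    (hN : IsCoatom N) (hQ : Q ≤ FOf M) (hQN : FsOf M ⊓ normalizer (Q : Set G) ≤ N)
    (hQ' : Q' ≤ FOf N) (hQ'M : FsOf N ⊓ normalizer (Q' : Set G) ≤ M) {p : ℕ} [hp : Fact p.Prime]
    (hFM : IsPGroup p (fittingSubgroup ↥M)) (hFN : IsPGroup p (fittingSubgroup ↥N))
    (hpM : Cfsg.pCoreOf p M ≠ ⊥) (hpN : Cfsg.pCoreOf p N ≠ ⊥) (hE : EOf M ≠ ⊥) : M = N := by
  have hEM : EOf M ≤ N := EOf_le_of_leads hQ hQN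
  have hEN : EOf N ≤ M := EOf_le_of_leads hQ' hQ'M
  have h1 := EOf_comm_pCoreOf hQ hQN hM hpM
  have hNpM : Cfsg.pCoreOf p N ≤ M := by
    intro w hw
    apply centralizer_le_of_coatom hM hE (EOf_le M) (le_normalizer_EOf M)
    rw [Subgroup.mem_centralizer_iff]
    intro e he
    exact h1 e he w hw
  obtain ⟨x, hxE, hx1, hxo⟩ := exists_cop_EOf p hE
  have hFNle : FOf N ≤ Cfsg.pCoreOf p N :=
    le_pCoreOf (FOf_le N) (le_normalizer_FOf N) (hFN.map _)
  have hE' : EOf N ≠ ⊥ := by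
    intro hbot
    have hxF : x ∈ FOf N := by
      apply mem_FOf_of_centralizes (hEM hxE)
      · intro e he
        rw [hbot, Subgroup.mem_bot] at he
        rw [he, one_mul, mul_one]
      · intro f hf
        exact (h1 x hxE f (hFNle hf)).symm
    exact hx1 (eq_one_of_mem_pgroup_of_coprime (isPGroup_pCoreOf (p := p) N) (hFNle hxF) hxo)
  have h1' := EOf_comm_pCoreOf hQ' hQ'M hN hpN
  have hMpN : Cfsg.pCoreOf p M ≤ N := by
    intro w hw
    apply centralizer_le_of_coatom hN hE' (EOf_le N) (le_normalizer_EOf N)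
    rw [Subgroup.mem_centralizer_iff]
    intro e he
    exact h1' e he w hw
  apply eq_of_cores hM hN hEM hEN ?_ ?_ hpM hpN
  · exact ⟨x, hx1, fun v hv => EOf_comm_FOf M x hxE v (pCoreOf_le_FOf p M hv), hxo⟩
  · intro q hq
    have : Fact q.Prime := ⟨hq⟩
    by_cases hqp : q = p
    · subst hqp; exact hNpM
    · rw [pCoreOf_eq_bot_of_isPGroup hqp hFN]; exact bot_le
  · intro q hq
    have : Fact q.Prime := ⟨hq⟩
    by_cases hqp : q = p
    · subst hqp; exact hMpN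
    · rw [pCoreOf_eq_bot_of_isPGroup hqp hFM]; exact bot_le

/-- The case of two primes. -/
theorem eq_of_two_primes [IsSimpleGroup G] {M N Q Q' : Subgroup G} (hM : IsCoatom M)
    (hN : IsCoatom N) (hQ : Q ≤ FOf M) (hQN : FsOf M ⊓ normalizer (Q : Set G) ≤ N)
    (hQ' : Q' ≤ FOf N) (hQ'M : FsOf N ⊓ normalizer (Q' : Set G) ≤ M)
    {q₁ q₂ : ℕ} (hq₁ : q₁.Prime) (hq₂ : q₂.Prime) (hne : q₁ ≠ q₂)
    (hd₁ : q₁ ∣ Nat.card (fittingSubgroup ↥M)) (hd₂ : q₂ ∣ Nat.card (fittingSubgroup ↥M)) :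
    M = N := by
  have : Fact q₁.Prime := ⟨hq₁⟩
  have : Fact q₂.Prime := ⟨hq₂⟩
  have hd₁' : q₁ ∣ Nat.card (fittingSubgroup ↥N) := dvd_of_dvd hQ hQN hQ' hQ'M hd₁
  have hd₂' : q₂ ∣ Nat.card (fittingSubgroup ↥N) := dvd_of_dvd hQ hQN hQ' hQ'M hd₂
  have hNM : ∀ q : ℕ, q.Prime → Cfsg.pCoreOf q N ≤ M := by
    intro q hq
    have : Fact q.Prime := ⟨hq⟩
    by_cases hqd : q ∣ Nat.card (fittingSubgroup ↥N)
    · have hqd' : q ∣ Nat.card (fittingSubgroup ↥M) := dvd_of_dvd hQ' hQ'M hQ hQN hqd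
      by_cases hq1 : q = q₁
      · exact le_of_dvd hQ hQN hM (hq1 ▸ hne) hqd' hd₂ (isPGroup_pCoreOf N)
          (le_normalizer_pCoreOf N)
      · exact le_of_dvd hQ hQN hM hq1 hqd' hd₁ (isPGroup_pCoreOf N) (le_normalizer_pCoreOf N)
    · rw [pCoreOf_eq_bot_of_not_dvd hqd]; exact bot_le
  have hMN : ∀ q : ℕ, q.Prime → Cfsg.pCoreOf q M ≤ N := by
    intro q hq
    have : Fact q.Prime := ⟨hq⟩
    by_cases hqd : q ∣ Nat.card (fittingSubgroup ↥M)
    · have hqd' : q ∣ Nat.card (fittingSubgroup ↥N) := dvd_of_dvd hQ hQN hQ' hQ'M hqd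
      by_cases hq1 : q = q₁
      · exact le_of_dvd hQ' hQ'M hN (hq1 ▸ hne) hqd' hd₂' (isPGroup_pCoreOf M)
          (le_normalizer_pCoreOf M)
      · exact le_of_dvd hQ' hQ'M hN hq1 hqd' hd₁' (isPGroup_pCoreOf M) (le_normalizer_pCoreOf M)
    · rw [pCoreOf_eq_bot_of_not_dvd hqd]; exact bot_le
  have hpM₂ : Cfsg.pCoreOf q₂ M ≠ ⊥ := pCoreOf_ne_bot_of_dvd hd₂
  obtain ⟨x, hx, hx1⟩ : ∃ x ∈ Cfsg.pCoreOf q₂ M, x ≠ 1 := by
    by_contra hcon
    apply hpM₂
    rw [eq_bot_iff]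
    intro x hx
    by_contra hx1
    exact hcon ⟨x, hx, fun h => hx1 (by rw [h]; exact (⊥ : Subgroup G).one_mem)⟩
  apply eq_of_cores hM hN (EOf_le_of_leads hQ hQN) (EOf_le_of_leads hQ' hQ'M) hNM hMN
    (pCoreOf_ne_bot_of_dvd hd₁) (pCoreOf_ne_bot_of_dvd hd₁')
  refine ⟨x, hx1, fun v hv => (pCoreOf_comm hne M v hv x hx).symm, ?_⟩
  obtain ⟨k, hk⟩ := (isPGroup_pCoreOf (p := q₂) M) ⟨x, hx⟩
  have hk' : x ^ q₂ ^ k = 1 := by simpa using congrArg Subtype.val hk
  exact Nat.Coprime.coprime_dvd_left (orderOf_dvd_of_pow_eq_one hk')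
    (Nat.Coprime.pow_left k ((Nat.coprime_primes hq₂ hq₁).mpr (Ne.symm hne)))

/-- **Bender's uniqueness theorem, symmetric case.** -/
theorem bender_symm [IsSimpleGroup G] {M N : Subgroup G} (hM : IsCoatom M) (hN : IsCoatom N)
    (hMN : Cfsg.leadsTo M N) (hNM : Cfsg.leadsTo N M) :
    M = N ∨ ∃ p : ℕ, p.Prime ∧ IsPGroup p ↥(generalizedFittingSubgroup ↥M) ∧
      IsPGroup p ↥(generalizedFittingSubgroup ↥N) := by
  obtain ⟨Q, hQne, hQ, hQN⟩ := hMN
  obtain ⟨Q', hQ'ne, hQ', hQ'M⟩ := hNM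
  by_cases h2 : ∃ q₁ q₂ : ℕ, q₁.Prime ∧ q₂.Prime ∧ q₁ ≠ q₂ ∧
      q₁ ∣ Nat.card (fittingSubgroup ↥M) ∧ q₂ ∣ Nat.card (fittingSubgroup ↥M)
  · obtain ⟨q₁, q₂, hq₁, hq₂, hne, hd₁, hd₂⟩ := h2
    exact Or.inl (eq_of_two_primes hM hN hQ hQN hQ' hQ'M hq₁ hq₂ hne hd₁ hd₂)
  · -- a single prime `p` divides `|F(M)|`
    have hcard1 : Nat.card (fittingSubgroup ↥M) ≠ 1 := by
      intro h1
      rw [← card_FOf] at h1
      have hbot : FOf M = ⊥ := Subgroup.eq_bot_of_card_eq _ h1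
      apply hQne
      rw [eq_bot_iff, ← hbot]
      exact hQ
    obtain ⟨p, hp, hpd⟩ := Nat.exists_prime_and_dvd hcard1
    have : Fact p.Prime := ⟨hp⟩
    have huniq : ∀ d : ℕ, d.Prime → d ∣ Nat.card (fittingSubgroup ↥M) → d = p := by
      intro d hd hdd
      by_contra hne
      exact h2 ⟨d, p, hd, hp, hne, hdd, hpd⟩
    have hFM : IsPGroup p (fittingSubgroup ↥M) := by
      apply IsPGroup.of_card (n := (Nat.card (fittingSubgroup ↥M)).primeFactorsList.length)
      exact Nat.eq_prime_pow_of_unique_prime_dvd Nat.card_pos.ne' (fun {d} hd hdd => huniq d hd hdd)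
    have hFN : IsPGroup p (fittingSubgroup ↥N) := by
      apply IsPGroup.of_card (n := (Nat.card (fittingSubgroup ↥N)).primeFactorsList.length)
      apply Nat.eq_prime_pow_of_unique_prime_dvd Nat.card_pos.ne'
      intro d hd hdd
      have : Fact d.Prime := ⟨hd⟩
      exact huniq d hd (dvd_of_dvd hQ' hQ'M hQ hQN hdd)
    have hpM : Cfsg.pCoreOf p M ≠ ⊥ := pCoreOf_ne_bot_of_dvd hpd
    have hpN : Cfsg.pCoreOf p N ≠ ⊥ := pCoreOf_ne_bot_of_dvd (dvd_of_dvd hQ hQN hQ' hQ'M hpd)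
    by_cases hEM : EOf M = ⊥
    · by_cases hEN : EOf N = ⊥
      · right
        refine ⟨p, hp, ?_, ?_⟩
        · have hl : layer ↥M = ⊥ :=
            (Subgroup.map_eq_bot_iff_of_injective _ (Subgroup.subtype_injective _)).mp hEM
          have e : generalizedFittingSubgroup ↥M = fittingSubgroup ↥M := by
            unfold generalizedFittingSubgroup
            rw [hl, bot_sup_eq]
          rw [e]; exact hFM
        · have hl : layer ↥N = ⊥ :=
            (Subgroup.map_eq_bot_iff_of_injective _ (Subgroup.subtype_injective _)).mp hEN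
          have e : generalizedFittingSubgroup ↥N = fittingSubgroup ↥N := by
            unfold generalizedFittingSubgroup
            rw [hl, bot_sup_eq]
          rw [e]; exact hFN
      · exact Or.inl (eq_of_layer_ne_bot hN hM hQ' hQ'M hQ hQN hFN hFM hpN hpM hEN).symm
    · exact Or.inl (eq_of_layer_ne_bot hM hN hQ hQN hQ' hQ'M hFM hFN hpM hpN hEM)

end finite

end Cfsg.Agent.H31.X.H37.Bender
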