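import Mathlib
import Cfsg.Agent.H31.X.BenderPair

-- helper31: verbatim copy of `Cfsg.Agent.H37.BenderOdd` under the namespace prefix `Cfsg.Agent.H31.X`
-- (so that it can be loaded together with `Cfsg.Agent.H29.ThompsonInt`, which declares the
-- same name `Cfsg.Agent.H29.map_symm_map` as `Cfsg.Agent.H29.Transport`).

set_option autoImplicit false
set_option linter.unusedSectionVars false

/-!
# Bender-type uniqueness for maximal subgroups with non-`p`-group Fitting subgroup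
(helper37, for S1482)

`unique_max_of_center` : `G` simple with all proper subgroups solvable, `H` maximal with
`|π(F(H))| ≥ 2`, `Z(F(H)) ≤ M ≤ F(H)`, and no nontrivial `M`-invariant `π(F(H))'`-subgroup:
then `H` is the only maximal subgroup containing `M`.
-/

namespace Cfsg.Agent.H31.X.H37.Bender

open Cfsg.Agent.H37

open Cfsg Subgroup Cfsg.Agent.H54 Cfsg.Agent.H31.X.H54

universe u

variable {G : Type u} [Group G] [Finite G]

/-- A solvable subgroup has trivial layer. -/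
theorem EOf_eq_bot_of_solvable {L : Subgroup G} (h : Group.IsSolvable L) : EOf L = ⊥ := by
  unfold EOf
  rw [Subgroup.map_eq_bot_iff_of_injective _ (Subgroup.subtype_injective _)]
  unfold layer
  rw [sSup_eq_bot]
  intro K hK
  exfalso
  apply Cfsg.Agent.H27.isComponent_not_solvable hK
  infer_instance

theorem FOf_le_of_pCoreOf_le {L H : Subgroup G} (h : ∀ q : ℕ, q.Prime → Cfsg.pCoreOf q L ≤ H) :
    FOf L ≤ H := by
  have : Fact (Nat.Prime 2) := ⟨Nat.prime_two⟩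
  refine (FOf_le_sup 2 L).trans (sup_le (h 2 Nat.prime_two) ?_)
  apply iSup₂_le
  rintro s ⟨hs, -⟩
  exact h s hs

/-- General form of `le_of_dvd`: a `q`-group normalized by `Z(O_q(M))` and `Z(O_r(M))`
(both nontrivial, `q ≠ r`, `M` maximal in a simple group) lies in `M`. -/
theorem le_of_ZOf [IsSimpleGroup G] {M : Subgroup G} (hM : IsCoatom M) {q r : ℕ}
    [hq : Fact q.Prime] [hr : Fact r.Prime] (hqr : q ≠ r) (hZq : ZOf q M ≠ ⊥)
    (hZr : ZOf r M ≠ ⊥) {X : Subgroup G} (hX : IsPGroup q X)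
    (hZqX : ZOf q M ≤ normalizer (X : Set G)) (hZrX : ZOf r M ≤ normalizer (X : Set G)) :
    X ≤ M := by
  have hCr : centralizer ((ZOf r M : Subgroup G) : Set G) ≤ M :=
    centralizer_le_of_coatom hM hZr (ZOf_le r M) (le_normalizer_ZOf r M)
  have hCq : centralizer ((ZOf q M : Subgroup G) : Set G) ≤ M :=
    centralizer_le_of_coatom hM hZq (ZOf_le q M) (le_normalizer_ZOf q M)
  have hcop : (Nat.card (ZOf r M)).Coprime q := by
    obtain ⟨k, hk⟩ := IsPGroup.iff_card.mp (isPGroup_ZOf r M)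
    rw [hk]
    exact Nat.Coprime.pow_left k ((Nat.coprime_primes hr.out hq.out).mpr (Ne.symm hqr))
  have hdisj : X ⊓ ZOf r M = ⊥ := by
    have hd : Disjoint X (ZOf r M) := by
      apply Subgroup.disjoint_of_coprime_natCard
      obtain ⟨k, hk⟩ := IsPGroup.iff_card.mp hX
      rw [hk]
      exact (Nat.Coprime.pow_right k hcop).symm
    exact hd.eq_bot
  have key := thompson_AxB (ZOf r M) (ZOf q M) X (isPGroup_ZOf q M) hcop
    (fun a ha b hb => ZOf_comm_FOf r M a ha b (pCoreOf_le_FOf q M hb.1)) hX hZrX hZqX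
    (by
      intro a ha x hx hxB
      have hxM : x ∈ M := by
        apply hCq
        rw [Subgroup.mem_centralizer_iff]
        intro b hb
        exact hxB b hb
      have h1 : a * x * a⁻¹ * x⁻¹ ∈ X :=
        mul_mem (conj_mem_of_le_normalizer hZrX ha hx) (inv_mem hx)
      have h2 : a * x * a⁻¹ * x⁻¹ ∈ ZOf r M := by
        have e : a * x * a⁻¹ * x⁻¹ = a * (x * a⁻¹ * x⁻¹) := by group
        rw [e]
        exact mul_mem ha (conj_mem_of_le_normalizer (le_normalizer_ZOf r M) hxM (inv_mem ha))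
      have h3 : a * x * a⁻¹ * x⁻¹ ∈ X ⊓ ZOf r M := ⟨h1, h2⟩
      rw [hdisj, Subgroup.mem_bot] at h3
      calc a * x = (a * x * a⁻¹ * x⁻¹) * x * a := by group
        _ = x * a := by rw [h3, one_mul])
  intro x hx
  apply hCr
  rw [Subgroup.mem_centralizer_iff]
  intro a ha
  exact key a ha x hx

theorem unique_max_of_center [IsSimpleGroup G]
    (hsolv : ∀ K : Subgroup G, K ≠ ⊤ → Group.IsSolvable K)
    {H : Subgroup G} (hH : IsCoatom H) (hF2 : 2 ≤ (Nat.card (FOf H)).primeFactors.card)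
    {M : Subgroup G}
    (hZM : FOf H ⊓ centralizer ((FOf H : Subgroup G) : Set G) ≤ M)
    (hinv : ∀ Y : Subgroup G, (∀ p : ℕ, p.Prime → p ∣ Nat.card Y → ¬ p ∣ Nat.card (FOf H)) →
      M ≤ normalizer (Y : Set G) → Y = ⊥) :
    ∀ L : Subgroup G, IsCoatom L → M ≤ L → L = H := by
  intro L hL hML
  by_contra hne
  have hEH : EOf H = ⊥ := EOf_eq_bot_of_solvable (hsolv H hH.1)
  have hEL : EOf L = ⊥ := EOf_eq_bot_of_solvable (hsolv L hL.1)
  have hcard : Nat.card (FOf H) = Nat.card (fittingSubgroup ↥H) := card_FOf H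
  obtain ⟨p₁, p₂, hp₁, hp₂, hne12, hd₁, hd₂⟩ : ∃ p₁ p₂ : ℕ, p₁.Prime ∧ p₂.Prime ∧ p₁ ≠ p₂ ∧
      p₁ ∣ Nat.card (fittingSubgroup ↥H) ∧ p₂ ∣ Nat.card (fittingSubgroup ↥H) := by
    rw [hcard] at hF2
    obtain ⟨p₁, hp₁m, p₂, hp₂m, hne⟩ := Finset.one_lt_card.mp
      (show 1 < (Nat.card (fittingSubgroup ↥H)).primeFactors.card by omega)
    exact ⟨p₁, p₂, Nat.prime_of_mem_primeFactors hp₁m, Nat.prime_of_mem_primeFactors hp₂m, hne,
      Nat.dvd_of_mem_primeFactors hp₁m, Nat.dvd_of_mem_primeFactors hp₂m⟩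
  have hF1 : Fact p₁.Prime := ⟨hp₁⟩
  have hF2' : Fact p₂.Prime := ⟨hp₂⟩
  have hZle : ∀ (p : ℕ) [Fact p.Prime], ZOf p H ≤ M := by
    intro p _ z hz
    apply hZM
    exact ⟨pCoreOf_le_FOf p H hz.1,
      mem_centralizer_of_comm (fun f hf => ZOf_comm_FOf p H z hz f hf)⟩
  have hLq : ∀ (q : ℕ) [Fact q.Prime], ¬ q ∣ Nat.card (fittingSubgroup ↥H) →
      Cfsg.pCoreOf q L = ⊥ := by
    intro q hqF hq
    apply hinv
    · intro p hp hpd
      obtain ⟨k, hk⟩ := IsPGroup.iff_card.mp (isPGroup_pCoreOf (p := q) L)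
      rw [hk] at hpd
      have hpq : p = q := (Nat.prime_dvd_prime_iff_eq hp hqF.out).mp (hp.dvd_of_dvd_pow hpd)
      rw [hpq, hcard]; exact hq
    · exact hML.trans (le_normalizer_pCoreOf L)
  have hLH : ∀ r : ℕ, r.Prime → Cfsg.pCoreOf r L ≤ H := by
    intro r hr
    have : Fact r.Prime := ⟨hr⟩
    by_cases hrd : r ∣ Nat.card (fittingSubgroup ↥H)
    · by_cases hr1 : r = p₁
      · exact le_of_ZOf hH (hr1 ▸ hne12) (ZOf_ne_bot (pCoreOf_ne_bot_of_dvd hrd))
          (ZOf_ne_bot (pCoreOf_ne_bot_of_dvd hd₂)) (isPGroup_pCoreOf L)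
          (((hZle r).trans hML).trans (le_normalizer_pCoreOf L))
          (((hZle p₂).trans hML).trans (le_normalizer_pCoreOf L))
      · exact le_of_ZOf hH hr1 (ZOf_ne_bot (pCoreOf_ne_bot_of_dvd hrd))
          (ZOf_ne_bot (pCoreOf_ne_bot_of_dvd hd₁)) (isPGroup_pCoreOf L)
          (((hZle r).trans hML).trans (le_normalizer_pCoreOf L))
          (((hZle p₁).trans hML).trans (le_normalizer_pCoreOf L))
    · rw [hLq r hrd]; exact bot_le
  have hFLH : FOf L ≤ H := FOf_le_of_pCoreOf_le hLH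
  have hFsL : FsOf L = FOf L := by
    unfold FsOf FOf; rw [genFitting_eq_fitting_of_EOf hEL]
  have hFsH : FsOf H = FOf H := by
    unfold FsOf FOf; rw [genFitting_eq_fitting_of_EOf hEH]
  have hM0 : M ≠ ⊥ := by
    intro h0
    have h1 := hZle p₁
    rw [h0] at h1
    exact ZOf_ne_bot (pCoreOf_ne_bot_of_dvd hd₁) (eq_bot_iff.mpr h1)
  have hFL0 : FOf L ≠ ⊥ := by
    intro h0
    have hL0 : L = ⊥ := eq_bot_of_FOf_eq_bot hEL h0
    apply hM0
    rw [eq_bot_iff, ← hL0]; exact hML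
  have hQ : FOf L ≤ FOf L := le_rfl
  have hQN : FsOf L ⊓ normalizer ((FOf L : Subgroup G) : Set G) ≤ H := by
    rw [hFsL]; exact inf_le_left.trans hFLH
  have hdvdL : ∀ (q : ℕ) [Fact q.Prime], q ∣ Nat.card (fittingSubgroup ↥H) →
      q ∣ Nat.card (fittingSubgroup ↥L) := by
    intro q _ hqd
    by_contra hn
    have h1 : ZOf q H ⊓ L = ⊥ :=
      inf_eq_bot_of_not_dvd hQ hQN hn (isPGroup_ZOf q H) (le_normalizer_ZOf q H)
    have h2 : ZOf q H ≤ L := (hZle q).trans hML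
    exact ZOf_ne_bot (pCoreOf_ne_bot_of_dvd hqd) (by rw [← h1]; exact (inf_eq_left.mpr h2).symm)
  have hHL : ∀ q : ℕ, q.Prime → Cfsg.pCoreOf q H ≤ L := by
    intro q hq
    have : Fact q.Prime := ⟨hq⟩
    by_cases hqd : q ∣ Nat.card (fittingSubgroup ↥H)
    · by_cases hq1 : q = p₁
      · exact le_of_dvd hQ hQN hL (hq1 ▸ hne12) (hdvdL q hqd) (hdvdL p₂ hd₂)
          (isPGroup_pCoreOf H) (le_normalizer_pCoreOf H)
      · exact le_of_dvd hQ hQN hL hq1 (hdvdL q hqd) (hdvdL p₁ hd₁)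
          (isPGroup_pCoreOf H) (le_normalizer_pCoreOf H)
    · rw [pCoreOf_eq_bot_of_not_dvd hqd]; exact bot_le
  have hFHL : FOf H ≤ L := FOf_le_of_pCoreOf_le hHL
  obtain ⟨p, hp, hpH, -⟩ := bender_max hH hL (fun h => hne h.symm)
    (by rw [hFsH]; exact hFHL) (by rw [hFsL]; exact hFLH)
  have hFp : IsPGroup p (fittingSubgroup ↥H) := hpH.to_le Cfsg.Agent.H27.fitting_le_genFitting
  have : Fact p.Prime := ⟨hp⟩
  obtain ⟨k, hk⟩ := IsPGroup.iff_card.mp hFp
  rw [hk] at hd₁ hd₂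
  have e1 : p₁ = p := (Nat.prime_dvd_prime_iff_eq hp₁ hp).mp (hp₁.dvd_of_dvd_pow hd₁)
  have e2 : p₂ = p := (Nat.prime_dvd_prime_iff_eq hp₂ hp).mp (hp₂.dvd_of_dvd_pow hd₂)
  exact hne12 (e1.trans e2.symm)

end Cfsg.Agent.H31.X.H37.Bender
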